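import Cfsg.Agent.Lib.Sporadic.Icosian.SpecData
import Cfsg.Agent.Lib.SmallGroups.HallJanko

/-!
# The element orders of the Hall-Janko group on one hundred points
-/

set_option autoImplicit false
set_option maxRecDepth 100000

namespace CfsgLib.Sporadic.Icosian.Spectrum

open CfsgLib.SmallGroups CfsgLib.SmallGroups.PermChain
open CfsgLib.SmallGroups.HallJankoData (level1 level2 level3 level4 level5 partH partK1 partK2 partK3)

/-- The whole group. -/
abbrev J : Subgroup (Equiv.Perm (Fin 100)) := grp 100 (level1 :: HallJanko.chain₁)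

/-- The orders. -/
def spec : Finset ℕ := {1, 2, 3, 4, 5, 6, 7, 8, 10, 12, 15}

/-- A base of the group. -/
def five : List ℕ := [0, 1, 2, 10, 13]

theorem bases_eq : (level1.b = 0 ∧ level2.b = 1 ∧ level3.b = 2 ∧ level4.b = 10 ∧ level5.b = 13) ∧
    partH.b = 37 := by decide +kernel

theorem one_of_five {σ : Equiv.Perm (Fin 100)} (hσ : σ ∈ J) (h : ∀ p : Fin 100, (p : ℕ) ∈ five → σ p = p) :
    σ = 1 := by
  obtain ⟨⟨a, b, c, d, e⟩, -⟩ := bases_eq
  have f : ∀ (l : Level) (hl : l.b < 100), l.b ∈ five → σ ⟨l.b, hl⟩ = ⟨l.b, hl⟩ := fun l hl hm => h _ hm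
  have h1 := mem_rest_of_fix HallJanko.check_chain hσ (by omega) (f level1 (by omega) (by rw [a]; simp [five]))
  have h2 := mem_rest_of_fix HallJanko.check₁ h1 (by omega) (f level2 (by omega) (by rw [b]; simp [five]))
  have c3 := HallJanko.check₂
  have h3 := mem_rest_of_fix c3 h2 (by omega) (f level3 (by omega) (by rw [c]; simp [five]))
  rw [check, Bool.and_eq_true] at c3
  have h4 := mem_rest_of_fix c3.2 h3 (by omega) (f level4 (by omega) (by rw [d]; simp [five]))
  have c4 := c3.2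
  rw [check, Bool.and_eq_true] at c4
  have h5 := mem_rest_of_fix c4.2 h4 (by omega) (f level5 (by omega) (by rw [e]; simp [five]))
  simpa [grp, gensOf] using h5

/-- A pair inside the group. -/
def inJ (e : ℕ × ℕ) : Bool := ok 100 e && sift 100 (level1 :: HallJanko.chain₁) e.1

theorem inJ_mem {e : ℕ × ℕ} (h : inJ e = true) : toPerm 100 e ∈ J := by
  simp only [inJ, Bool.and_eq_true] at h
  exact mem_grp_of_sift _ _ _ HallJanko.check_chain (rep_fst h.1) h.2

theorem inJ_ok {e : ℕ × ℕ} (h : inJ e = true) : ok 100 e = true := by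
  simp only [inJ, Bool.and_eq_true] at h; exact h.1

/-- The images of the base, as a code. -/
def sig5 (e : ℕ × ℕ) : ℕ := five.foldl (fun a p => a * 128 + get e.1 p) 0

/-- A table of elements fixing `0` and `b`. -/
def fixTable (b : ℕ) (L : List (ℕ × ℕ)) : Bool :=
  L.all (fun e => inJ e && (get e.1 0 == 0) && (get e.1 b == b)) && decide ((L.map sig5).Nodup)

theorem tables_ok : fixTable 1 SpecData.fixOne = true ∧ fixTable 37 SpecData.fixFar = true ∧
    SpecData.fixOne.length = 168 ∧ SpecData.fixFar.length = 96 := by decide +kernel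

theorem exists_in_table {b : ℕ} (hb : b < 100) {L : List (ℕ × ℕ)} (h : fixTable b L = true)
    (hcard : Nat.card {σ : Equiv.Perm (Fin 100) // σ ∈ J ∧ σ 0 = 0 ∧ σ ⟨b, hb⟩ = ⟨b, hb⟩} ≤ L.length)
    {σ : Equiv.Perm (Fin 100)} (hσ : σ ∈ J) (h0 : σ 0 = 0) (hb' : σ ⟨b, hb⟩ = ⟨b, hb⟩) :
    ∃ e ∈ L, toPerm 100 e = σ := by
  simp only [fixTable, Bool.and_eq_true, List.all_eq_true, decide_eq_true_eq] at h
  obtain ⟨hL, hnd⟩ := h
  let T := {σ : Equiv.Perm (Fin 100) // σ ∈ J ∧ σ 0 = 0 ∧ σ ⟨b, hb⟩ = ⟨b, hb⟩}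
  let f : Fin L.length → T := fun i => ⟨toPerm 100 L[i], by
    obtain ⟨⟨a, c⟩, d⟩ := hL _ (List.getElem_mem i.isLt)
    exact ⟨inJ_mem a, Fin.ext ((rep_fst (inJ_ok a) 0).symm.trans (beq_iff_eq.mp c)),
      Fin.ext ((rep_fst (inJ_ok a) ⟨b, hb⟩).symm.trans (beq_iff_eq.mp d))⟩⟩
  have hf : Function.Injective f := fun i j e => by
    have e' : toPerm 100 L[i] = toPerm 100 L[j] := congrArg Subtype.val e
    have hs : sig5 L[i] = sig5 L[j] := by
      have ho : ∀ i : Fin L.length, ok 100 L[i] = true := fun i =>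
        inJ_ok (hL _ (List.getElem_mem i.isLt)).1.1
      have hget : ∀ p : Fin 100, get (L[i]).1 p = get (L[j]).1 p := fun p => by
        rw [rep_fst (ho i) p, rep_fst (ho j) p, e']
      simp only [sig5, five, List.foldl_cons, List.foldl_nil]
      have a0 := hget 0; have a1 := hget 1; have a2 := hget 2; have a3 := hget 10; have a4 := hget 13
      simp only [Fin.isValue, Fin.val_zero, Fin.val_one, Fin.val_two] at a0 a1 a2
      rw [show ((10 : Fin 100) : ℕ) = 10 from rfl] at a3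
      rw [show ((13 : Fin 100) : ℕ) = 13 from rfl] at a4
      rw [a0, a1, a2, a3, a4]
    refine Fin.ext ((List.Nodup.getElem_inj_iff hnd (i := (i : ℕ)) (j := (j : ℕ)) (hi := by simp) (hj := by simp)).mp ?_)
    simpa using hs
  have hsur : Function.Surjective f := (hf.bijective_of_nat_card_le (by
    rw [Nat.card_eq_fintype_card (α := Fin L.length), Fintype.card_fin]; exact hcard)).2
  obtain ⟨i, hi⟩ := hsur ⟨σ, hσ, h0, hb'⟩
  exact ⟨_, List.getElem_mem i.isLt, congrArg Subtype.val hi⟩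

theorem closed_far : ((gensOf HallJanko.chain₁).all fun e => (pts partH).all fun y =>
    (pts partH).contains (get e.1 y)) = true := by decide +kernel

theorem pts_far : (pts partH).Nodup ∧ (pts partH).length = 63 ∧ 37 ∈ pts partH ∧
    (∀ y ∈ pts partH, y < 100) := by decide +kernel

theorem closed_near : ((gensOf HallJanko.chain₁).all fun e => (pts level2).all fun y =>
    (pts level2).contains (get e.1 y)) = true := by decide +kernel

theorem gens₁_ok : ((gensOf HallJanko.chain₁).all (ok 100)) = true := by decide +kernel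

theorem mem_H {σ : Equiv.Perm (Fin 100)} (hσ : σ ∈ J) (h0 : σ 0 = 0) : σ ∈ grp 100 HallJanko.chain₁ := by
  have hb : level1.b < 100 := by rw [bases_eq.1.1]; norm_num
  have e : (⟨level1.b, hb⟩ : Fin 100) = 0 := Fin.ext bases_eq.1.1
  exact mem_rest_of_fix HallJanko.check_chain hσ hb (by rw [e]; exact h0)

theorem fixes_zero {σ : Equiv.Perm (Fin 100)} (hσ : σ ∈ grp 100 HallJanko.chain₁) : σ ∈ J ∧ σ 0 = 0 := by
  obtain ⟨hb, -, hle, hfix, -⟩ := level_spec HallJanko.check_chain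
  refine ⟨hle hσ, ?_⟩
  have e : (⟨level1.b, hb⟩ : Fin 100) = 0 := Fin.ext bases_eq.1.1
  exact e ▸ hfix σ hσ

theorem closed_mem {U : List ℕ} (hU : ((gensOf HallJanko.chain₁).all fun e => U.all fun y =>
    U.contains (get e.1 y)) = true) {σ : Equiv.Perm (Fin 100)} (hσ : σ ∈ grp 100 HallJanko.chain₁)
    {y : Fin 100} (hy : (y : ℕ) ∈ U) : (σ y : ℕ) ∈ U := by
  revert y
  refine Subgroup.closure_induction_left (p := fun σ _ => ∀ {y : Fin 100}, (y : ℕ) ∈ U → (σ y : ℕ) ∈ U)
    (fun h => h) ?_ ?_ hσ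
  · rintro _ ⟨e, he, rfl⟩ τ _ ih y hy
    have h := (List.all_eq_true.mp ((List.all_eq_true.mp hU) e he)) _ (ih hy)
    rw [rep_fst ((List.all_eq_true.mp gens₁_ok) e he)] at h
    simpa using h
  · rintro _ ⟨e, he, rfl⟩ τ _ ih y hy
    have hstep : ∀ k : ℕ, ∀ z : Fin 100, (z : ℕ) ∈ U → ((toPerm 100 e ^ k) z : ℕ) ∈ U := by
      intro k
      induction k with
      | zero => exact fun z hz => hz
      | succ k ihk =>
        intro z hz
        rw [pow_succ']
        have h := (List.all_eq_true.mp ((List.all_eq_true.mp hU) e he)) _ (ihk z hz)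
        rw [rep_fst ((List.all_eq_true.mp gens₁_ok) e he)] at h
        simpa using h
    have he' : (toPerm 100 e)⁻¹ = toPerm 100 e ^ (orderOf (toPerm 100 e) - 1) :=
      inv_eq_of_mul_eq_one_right (by
        rw [← pow_succ', Nat.sub_add_cancel (orderOf_pos (toPerm 100 e)), pow_orderOf_eq_one])
    rw [he']
    exact hstep _ _ (ih hy)

theorem card_fix_one : Nat.card {σ : Equiv.Perm (Fin 100) // σ ∈ J ∧ σ 0 = 0 ∧ σ ⟨1, by norm_num⟩ = ⟨1, by norm_num⟩} ≤
    SpecData.fixOne.length := by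
  rw [tables_ok.2.2.1, ← HallJanko.card_K]
  refine Nat.card_le_card_of_injective (fun σ => (⟨σ.1, ?_⟩ : grp 100 HallJanko.chain₂))
    (fun a b e => Subtype.ext (congrArg (fun x : grp 100 HallJanko.chain₂ => (x : Equiv.Perm (Fin 100))) e))
  obtain ⟨h, h0, h1⟩ := σ.2
  have hb : level2.b < 100 := by rw [bases_eq.1.2.1]; norm_num
  have e : (⟨level2.b, hb⟩ : Fin 100) = ⟨1, by norm_num⟩ := Fin.ext bases_eq.1.2.1
  exact mem_rest_of_fix HallJanko.check₁ (mem_H h h0) hb (by rw [e]; exact h1)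

theorem card_fix_far : Nat.card {σ : Equiv.Perm (Fin 100) // σ ∈ J ∧ σ 0 = 0 ∧ σ ⟨37, by norm_num⟩ = ⟨37, by norm_num⟩} ≤
    SpecData.fixFar.length := by
  rw [tables_ok.2.2.2]
  let x : Fin 100 := ⟨37, by norm_num⟩
  let H := grp 100 HallJanko.chain₁
  have horb : 63 ≤ Nat.card (MulAction.orbit H x) := by
    rw [← pts_far.2.1, ← List.toFinset_card_of_nodup pts_far.1, Nat.card_coe_set_eq]
    refine le_trans ?_ (Set.ncard_image_le (f := fun y : Fin 100 => (y : ℕ)) (Set.toFinite _))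
    rw [← Set.ncard_coe_finset]
    refine Set.ncard_le_ncard (fun y hy => ?_) (Set.toFinite _)
    rw [Finset.mem_coe, List.mem_toFinset] at hy
    have hb : partH.b < 100 := by rw [bases_eq.2]; norm_num
    obtain ⟨σ, hσ, hσy⟩ := exists_map_of_conn HallJanko.conn_partH hb (y := ⟨y, pts_far.2.2.2 y hy⟩) hy
    refine ⟨⟨y, pts_far.2.2.2 y hy⟩, ⟨⟨σ, hσ⟩, ?_⟩, rfl⟩
    show σ x = _
    rw [← hσy]; exact congrArg σ (Fin.ext bases_eq.2.symm)
  have hmul := Nat.card_congr (MulAction.orbitProdStabilizerEquivGroup H x)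
  rw [Nat.card_prod, (HallJanko.card_H : Nat.card H = 6048)] at hmul
  refine le_trans (Nat.card_le_card_of_injective (fun σ => (⟨⟨σ.1, mem_H σ.2.1 σ.2.2.1⟩, σ.2.2.2⟩ : MulAction.stabilizer H x))
    (fun a b e => Subtype.ext (congrArg (fun z : MulAction.stabilizer H x => ((z : H) : Equiv.Perm (Fin 100))) e))) ?_
  nlinarith

/-- Apply a product of two maps. -/
def ev (w k p : ℕ) : ℕ := get w (get k p)

/-- Apply it repeatedly. -/
def it (w k : ℕ) : ℕ → ℕ → ℕ
  | 0, p => p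
  | m + 1, p => ev w k (it w k m p)

/-- The order of a product divides an admissible number. -/
def leafOK (w k : ℕ) : Bool :=
  [7, 8, 10, 12, 15].any fun m => five.all fun p => it w k m p == p

theorem leaf_near : (SpecData.moveNear.all fun w => SpecData.fixOne.all fun k => leafOK w.1 k.1) = true := by
  decide +kernel

theorem leaf_one : (SpecData.jumpOne.all fun w => SpecData.fixOne.all fun k => leafOK w.1 k.1) = true := by
  decide +kernel

theorem leaf_far : (SpecData.jumpFar.all fun w => SpecData.fixFar.all fun k => leafOK w.1 k.1) = true := by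
  decide +kernel

theorem pow_of_leaf {w k : ℕ × ℕ} (hw : inJ w = true) (hk : inJ k = true) (h : leafOK w.1 k.1 = true) :
    ∃ m ∈ [7, 8, 10, 12, 15], (toPerm 100 w * toPerm 100 k) ^ m = 1 := by
  obtain ⟨m, hm, h⟩ := List.any_eq_true.mp h
  refine ⟨m, hm, one_of_five (Subgroup.pow_mem _ (mul_mem (inJ_mem hw) (inJ_mem hk)) m) fun p hp => ?_⟩
  have key : ∀ n : ℕ, it w.1 k.1 n p = ((toPerm 100 w * toPerm 100 k) ^ n) p := by
    intro n
    induction n with
    | zero => rfl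
    | succ n ih =>
      rw [it, ev, ih, pow_succ', Equiv.Perm.mul_apply, rep_fst (inJ_ok hk), rep_fst (inJ_ok hw), Equiv.Perm.mul_apply]
  exact Fin.ext ((key m).symm.trans (beq_iff_eq.mp ((List.all_eq_true.mp h) p hp)))

theorem movers_ok : ((SpecData.moveNear ++ SpecData.jumpOne ++ SpecData.jumpFar ++
    [SpecData.stepOne, SpecData.stepFar]).all inJ) = true ∧
    (SpecData.jumpOne.all fun w => get w.1 0 == 1) = true ∧
    (SpecData.jumpFar.all fun w => get w.1 0 == 37) = true ∧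
    (SpecData.moveNear.all fun w => get w.1 0 == 0) = true ∧
    get SpecData.stepOne.1 0 = 1 ∧ get SpecData.stepFar.1 0 = 37 := by decide +kernel

theorem near_cover : ((pts level2).all fun p => (p == 1) ||
    [partK1, partK2, partK3].any fun P => (pts P).contains p) = true ∧
    ([partK1, partK2, partK3].all fun P => SpecData.moveNear.any fun w => get w.1 1 == P.b) = true ∧
    (SpecData.moveNear.any fun w => get w.1 1 == 1) = true := by decide +kernel

theorem whole_cover : ((List.range 100).all fun y => (y == 0) || (pts level2).contains y || (pts partH).contains y) = true ∧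
    1 ∈ pts level2 ∧ (∀ y ∈ pts level2, y < 100) := by decide +kernel

/-- Every second step is conjugate to a listed one. -/
def coverOK (b : ℕ) (u : ℕ × ℕ) (U : List ℕ) (L ws : List (ℕ × ℕ)) : Bool :=
  U.all fun y => L.any fun k => ws.any fun w => get k.1 (get u.1 y) == get w.1 b

theorem cover_ok : coverOK 1 SpecData.stepOne (pts level2) SpecData.fixOne SpecData.jumpOne = true ∧
    coverOK 37 SpecData.stepFar (pts partH) SpecData.fixFar SpecData.jumpFar = true := by decide +kernel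

theorem pow_conj_one {σ g : Equiv.Perm (Fin 100)} {m : ℕ} (h : (σ * g * σ⁻¹) ^ m = 1) : g ^ m = 1 := by
  rw [conj_pow] at h
  calc g ^ m = σ⁻¹ * (σ * g ^ m * σ⁻¹) * σ := by group
    _ = 1 := by rw [h]; group

/-- The conclusion for one element. -/
def Small (g : Equiv.Perm (Fin 100)) : Prop := ∃ m ∈ [7, 8, 10, 12, 15], g ^ m = 1

theorem small_conj {σ g : Equiv.Perm (Fin 100)} (h : Small (σ * g * σ⁻¹)) : Small g :=
  let ⟨m, hm, e⟩ := h; ⟨m, hm, pow_conj_one e⟩

theorem small_of_zero {g : Equiv.Perm (Fin 100)} (hg : g ∈ J) (h0 : g 0 = 0) : Small g := by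
  have one : (1 : ℕ) < 100 := by norm_num
  have hb2 : (⟨level2.b, by rw [bases_eq.1.2.1]; norm_num⟩ : Fin 100) = ⟨1, one⟩ := Fin.ext bases_eq.1.2.1
  obtain ⟨hm, hc, h1⟩ := near_cover
  have leaf : ∀ g : Equiv.Perm (Fin 100), g ∈ J → g 0 = 0 → (∃ w ∈ SpecData.moveNear, get w.1 1 = (g ⟨1, one⟩ : ℕ)) →
      Small g := by
    rintro g hg h0 ⟨w, hw, e⟩
    have hwJ := (List.all_eq_true.mp movers_ok.1) w (by simp [hw])
    have ew : toPerm 100 w 0 = 0 := Fin.ext ((rep_fst (inJ_ok hwJ) 0).symm.trans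
      (beq_iff_eq.mp ((List.all_eq_true.mp movers_ok.2.2.2.1) w hw)))
    have e1 : toPerm 100 w ⟨1, one⟩ = g ⟨1, one⟩ := Fin.ext ((rep_fst (inJ_ok hwJ) ⟨1, one⟩).symm.trans e)
    obtain ⟨k, hk, ek⟩ := exists_in_table one tables_ok.1 card_fix_one (σ := (toPerm 100 w)⁻¹ * g)
      (mul_mem (inv_mem (inJ_mem hwJ)) hg)
      (by rw [Equiv.Perm.mul_apply, h0, Equiv.Perm.inv_eq_iff_eq, ew])
      (by rw [Equiv.Perm.mul_apply, Equiv.Perm.inv_eq_iff_eq, e1])
    have hkJ : inJ k = true := by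
      have := tables_ok.1
      simp only [fixTable, Bool.and_eq_true, List.all_eq_true] at this
      exact (this.1 k hk).1.1
    obtain ⟨m, hm, e⟩ := pow_of_leaf hwJ hkJ ((List.all_eq_true.mp ((List.all_eq_true.mp leaf_near) w hw)) k hk)
    exact ⟨m, hm, by rw [ek, mul_inv_cancel_left] at e; exact e⟩
  have hp : (g ⟨1, one⟩ : ℕ) ∈ pts level2 := closed_mem closed_near (mem_H hg h0) (by simpa using whole_cover.2.1)
  have h2 := (List.all_eq_true.mp hm) _ hp
  simp only [Bool.or_eq_true, beq_iff_eq, List.any_eq_true, List.contains_iff_mem] at h2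
  rcases h2 with h2 | ⟨P, hP, h2⟩
  · refine leaf g hg h0 ?_
    obtain ⟨w, hw, e⟩ := List.any_eq_true.mp h1
    exact ⟨w, hw, (beq_iff_eq.mp e).trans h2.symm⟩
  · have hconn : connOK 100 HallJanko.chain₂ P = true := by
      simp only [List.mem_cons, List.not_mem_nil, or_false] at hP
      rcases hP with rfl | rfl | rfl
      exacts [HallJanko.conn_partK1, HallJanko.conn_partK2, HallJanko.conn_partK3]
    have hPb : P.b < 100 := by
      have := hconn
      simp only [connOK, Bool.and_eq_true, decide_eq_true_eq] at this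
      exact this.1.1.1
    obtain ⟨σ, hσ, hσy⟩ := exists_map_of_conn hconn hPb h2
    obtain ⟨hb, -, hle, hfix, -⟩ := level_spec HallJanko.check₁
    obtain ⟨hσJ, hσ0⟩ := fixes_zero (hle hσ)
    have hσ1 : σ ⟨1, one⟩ = ⟨1, one⟩ := hb2 ▸ hfix σ hσ
    refine small_conj (σ := σ⁻¹) (leaf _ ?_ ?_ ?_)
    · exact mul_mem (mul_mem (inv_mem hσJ) hg) (inv_mem (inv_mem hσJ))
    · simp only [inv_inv, Equiv.Perm.mul_apply, hσ0, h0]
      rw [Equiv.Perm.inv_eq_iff_eq, hσ0]
    · obtain ⟨w, hw, e⟩ := List.any_eq_true.mp ((List.all_eq_true.mp hc) P hP)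
      refine ⟨w, hw, ?_⟩
      simp only [inv_inv, Equiv.Perm.mul_apply, hσ1]
      rw [beq_iff_eq.mp e, show σ⁻¹ (g ⟨1, one⟩) = (⟨P.b, hPb⟩ : Fin 100) by rw [Equiv.Perm.inv_eq_iff_eq, hσy]]

theorem small_of_step {b : ℕ} (hb : b < 100) (u : ℕ × ℕ) (U : List ℕ) (L ws : List (ℕ × ℕ))
    (hu : inJ u = true) (hu0 : get u.1 0 = b) (hUb : b ∈ U)
    (hU : ((gensOf HallJanko.chain₁).all fun e => U.all fun y => U.contains (get e.1 y)) = true)
    (hUlt : ∀ y ∈ U, y < 100) (hT : fixTable b L = true)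
    (hcard : Nat.card {σ : Equiv.Perm (Fin 100) // σ ∈ J ∧ σ 0 = 0 ∧ σ ⟨b, hb⟩ = ⟨b, hb⟩} ≤ L.length)
    (hws : ∀ w ∈ ws, inJ w = true ∧ get w.1 0 = b)
    (hleaf : (ws.all fun w => L.all fun k => leafOK w.1 k.1) = true) (hcov : coverOK b u U L ws = true)
    {g : Equiv.Perm (Fin 100)} (hg : g ∈ J) (h0 : g 0 = ⟨b, hb⟩) : Small g := by
  have eu : toPerm 100 u 0 = ⟨b, hb⟩ := Fin.ext ((rep_fst (inJ_ok hu) 0).symm.trans hu0)
  have hy : (((toPerm 100 u)⁻¹ * g) ⟨b, hb⟩ : ℕ) ∈ U :=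
    closed_mem hU (mem_H (mul_mem (inv_mem (inJ_mem hu)) hg)
      (by rw [Equiv.Perm.mul_apply, h0, Equiv.Perm.inv_eq_iff_eq, eu])) hUb
  set y : Fin 100 := ((toPerm 100 u)⁻¹ * g) ⟨b, hb⟩ with hydef
  have huy : toPerm 100 u y = g ⟨b, hb⟩ := by rw [hydef, Equiv.Perm.mul_apply]; simp
  have hc := (List.all_eq_true.mp hcov) _ hy
  simp only [List.any_eq_true, beq_iff_eq] at hc
  obtain ⟨k, hk, w, hw, e⟩ := hc
  simp only [fixTable, Bool.and_eq_true, List.all_eq_true] at hT
  obtain ⟨⟨hkJ, hk0⟩, hkb⟩ := hT.1 k hk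
  obtain ⟨hwJ, hw0⟩ := hws w hw
  have ek0 : toPerm 100 k 0 = 0 := Fin.ext ((rep_fst (inJ_ok hkJ) 0).symm.trans (beq_iff_eq.mp hk0))
  have ekb : toPerm 100 k ⟨b, hb⟩ = ⟨b, hb⟩ := Fin.ext ((rep_fst (inJ_ok hkJ) ⟨b, hb⟩).symm.trans (beq_iff_eq.mp hkb))
  have ekx : toPerm 100 k (g ⟨b, hb⟩) = toPerm 100 w ⟨b, hb⟩ := by
    refine Fin.ext ?_
    rw [← huy, ← rep_fst (inJ_ok hkJ), ← rep_fst (inJ_ok hu), ← rep_fst (inJ_ok hwJ)]
    exact e
  have ew0 : toPerm 100 w 0 = ⟨b, hb⟩ := Fin.ext ((rep_fst (inJ_ok hwJ) 0).symm.trans hw0)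
  refine small_conj (σ := toPerm 100 k) ?_
  set g' := toPerm 100 k * g * (toPerm 100 k)⁻¹
  have hg' : g' ∈ J := mul_mem (mul_mem (inJ_mem hkJ) hg) (inv_mem (inJ_mem hkJ))
  have g0 : g' 0 = ⟨b, hb⟩ := by
    simp only [g', Equiv.Perm.mul_apply]
    rw [show (toPerm 100 k)⁻¹ 0 = 0 by rw [Equiv.Perm.inv_eq_iff_eq, ek0], h0, ekb]
  have gb : g' ⟨b, hb⟩ = toPerm 100 w ⟨b, hb⟩ := by
    simp only [g', Equiv.Perm.mul_apply]
    rw [show (toPerm 100 k)⁻¹ ⟨b, hb⟩ = ⟨b, hb⟩ by rw [Equiv.Perm.inv_eq_iff_eq, ekb], ekx]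
  obtain ⟨l, hl, el⟩ := exists_in_table hb (by simp only [fixTable, Bool.and_eq_true, List.all_eq_true]; exact hT) hcard
    (σ := (toPerm 100 w)⁻¹ * g') (mul_mem (inv_mem (inJ_mem hwJ)) hg')
    (by rw [Equiv.Perm.mul_apply, g0, Equiv.Perm.inv_eq_iff_eq, ew0])
    (by rw [Equiv.Perm.mul_apply, gb, Equiv.Perm.inv_eq_iff_eq])
  obtain ⟨m, hm, e'⟩ := pow_of_leaf hwJ (hT.1 l hl).1.1 ((List.all_eq_true.mp ((List.all_eq_true.mp hleaf) w hw)) l hl)
  exact ⟨m, hm, by rw [el, mul_inv_cancel_left] at e'; exact e'⟩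

theorem small {g : Equiv.Perm (Fin 100)} (hg : g ∈ J) : Small g := by
  obtain ⟨hJ, h1, h37, -, u1, u37⟩ := movers_ok
  rw [List.all_eq_true] at hJ h1 h37
  have hc := (List.all_eq_true.mp whole_cover.1) (g 0 : ℕ) (List.mem_range.mpr (g 0).isLt)
  simp only [Bool.or_eq_true, beq_iff_eq, List.contains_iff_mem] at hc
  rcases hc with (hc | hc) | hc
  · exact small_of_zero hg (Fin.ext hc)
  · have hb : level2.b < 100 := by rw [bases_eq.1.2.1]; norm_num
    obtain ⟨σ, hσ, hσy⟩ := exists_map_of_conn HallJanko.conn_level2 hb hc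
    obtain ⟨hσJ, hσ0⟩ := fixes_zero hσ
    refine small_conj (σ := σ⁻¹) (small_of_step (b := 1) (by norm_num) SpecData.stepOne (pts level2) SpecData.fixOne
      SpecData.jumpOne (hJ _ (by simp)) u1 whole_cover.2.1 closed_near whole_cover.2.2 tables_ok.1 card_fix_one
      (fun w hw => ⟨hJ _ (by simp [hw]), beq_iff_eq.mp (h1 w hw)⟩) leaf_one cover_ok.1
      (mul_mem (mul_mem (inv_mem hσJ) hg) (inv_mem (inv_mem hσJ))) ?_)
    simp only [inv_inv, Equiv.Perm.mul_apply, hσ0]
    rw [Equiv.Perm.inv_eq_iff_eq]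
    exact hσy.symm.trans (congrArg σ (Fin.ext bases_eq.1.2.1))
  · have hb : partH.b < 100 := by rw [bases_eq.2]; norm_num
    obtain ⟨σ, hσ, hσy⟩ := exists_map_of_conn HallJanko.conn_partH hb hc
    obtain ⟨hσJ, hσ0⟩ := fixes_zero hσ
    refine small_conj (σ := σ⁻¹) (small_of_step (b := 37) (by norm_num) SpecData.stepFar (pts partH) SpecData.fixFar
      SpecData.jumpFar (hJ _ (by simp)) u37 pts_far.2.2.1 closed_far pts_far.2.2.2 tables_ok.2.1 card_fix_far
      (fun w hw => ⟨hJ _ (by simp [hw]), beq_iff_eq.mp (h37 w hw)⟩) leaf_far cover_ok.2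
      (mul_mem (mul_mem (inv_mem hσJ) hg) (inv_mem (inv_mem hσJ))) ?_)
    simp only [inv_inv, Equiv.Perm.mul_apply, hσ0]
    rw [Equiv.Perm.inv_eq_iff_eq]
    exact hσy.symm.trans (congrArg σ (Fin.ext bases_eq.2))

/-- The check of a witness. -/
def witOK (t : ℕ × ℕ × ℕ) : Bool :=
  inJ (t.2.1, t.2.2) && decide (0 < t.1) && (five.all fun p => it t.2.1 idN t.1 p == p) &&
    ((List.range t.1).all fun k => (k == 0) || five.any fun p => !(it t.2.1 idN k p == p))
where
  /-- The identity map, packed. -/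
  idN : ℕ := pack (List.range 100)

theorem wit_ok : (SpecData.witnesses.all witOK) = true ∧
    (SpecData.witnesses.map fun t => t.1) = [1, 2, 3, 4, 5, 6, 7, 8, 10, 12, 15] := by decide +kernel

theorem get_idN : ((List.range 100).all fun i => get witOK.idN i == i) = true := by decide +kernel

theorem range_orderOf : Set.range (orderOf : J → ℕ) = ↑spec := by
  ext n
  constructor
  · rintro ⟨g, rfl⟩
    obtain ⟨m, hm, e⟩ := small g.2
    have hd : orderOf g ∣ m := orderOf_dvd_of_pow_eq_one (Subtype.ext (by simpa using e))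
    have key : ∀ m ∈ [7, 8, 10, 12, 15], ∀ d < 16, d ∣ m → d ∈ spec := by decide
    refine key m hm _ ?_ hd
    have hpos : 0 < m ∧ m < 16 := by
      have hall : ∀ m ∈ [7, 8, 10, 12, 15], 0 < m ∧ m < 16 := by decide
      exact hall m hm
    exact lt_of_le_of_lt (Nat.le_of_dvd hpos.1 hd) hpos.2
  · intro hn
    have : n ∈ SpecData.witnesses.map fun t => t.1 := by
      rw [wit_ok.2]; simpa [spec] using hn
    obtain ⟨⟨n', e, f⟩, ht, rfl⟩ := List.mem_map.mp this
    have h := (List.all_eq_true.mp wit_ok.1) _ ht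
    simp only [witOK, Bool.and_eq_true, decide_eq_true_eq, List.all_eq_true, Bool.or_eq_true, List.any_eq_true,
      List.mem_range] at h
    obtain ⟨⟨⟨hJ, hpos⟩, hfix⟩, hmove⟩ := h
    have key : ∀ (m : ℕ) (p : Fin 100), it e witOK.idN m p = ((toPerm 100 (e, f)) ^ m) p := by
      intro m p
      induction m with
      | zero => rfl
      | succ m ih =>
        rw [it, ev, ih, pow_succ', Equiv.Perm.mul_apply,
          beq_iff_eq.mp ((List.all_eq_true.mp get_idN) _ (List.mem_range.mpr (Fin.isLt _))), rep_fst (inJ_ok hJ)]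
    refine ⟨⟨_, inJ_mem hJ⟩, ?_⟩
    rw [← Subgroup.orderOf_coe, orderOf_eq_iff hpos]
    refine ⟨one_of_five (Subgroup.pow_mem _ (inJ_mem hJ) _)
      (fun p hp => Fin.ext ((key _ p).symm.trans (beq_iff_eq.mp (hfix p hp)))), fun k hk h0 hk1 => ?_⟩
    rcases hmove k hk with h | ⟨p, hp, h⟩
    · simp only [beq_iff_eq] at h; omega
    · have hp' : p < 100 := by
        have hall : ∀ p ∈ five, p < 100 := by decide
        exact hall p hp
      have := key k ⟨p, hp'⟩
      rw [hk1, Equiv.Perm.one_apply] at this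
      simp [this] at h

end CfsgLib.Sporadic.Icosian.Spectrum
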