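import Cfsg.Agent.Lib.Sporadic.Icosian.Lines

/-!
# The reflection group and its image on one hundred points
-/

set_option autoImplicit false
set_option maxRecDepth 10000

namespace CfsgLib.Sporadic.Icosian

open Quaternion Cfsg.Spor Subgroup

open CfsgLib.SmallGroups (PermChain.toPerm PermChain.grp PermChain.gensOf PermChain.ok)
open CfsgLib.SmallGroups

theorem mem_units {q : ℍ[ℝ]} (hq : q ∈ icosians) (h : q * star q = 1) : ∃ u ∈ Data.unitsN, unitH u = q := by
  obtain ⟨x, hx, rfl⟩ := Q8.mem_icosians.mp hq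
  rw [← Q8.toH_conj, ← Q8.toH_one] at h
  have hn : Q8.nrm x = (⟨4, 0⟩ : P2) := by rw [← Q8.raw_conj_r, Q8.raw_of_mul h]; decide
  have hs : Short.IsShort x := ⟨hx, ⟨12, 0⟩, by norm_num [Q8.Pos], by rw [hn]; decide⟩
  have hne : x ≠ Q8.zero := fun e => by rw [e] at hn; exact absurd hn (by decide)
  obtain ⟨u, hu, w, hw, e⟩ := Short.factor hs hne
  obtain ⟨u1, u2, u3, u4⟩ := unit_spec hu
  have e1 := Q8.mul_of_raw e
  have hwn : Q8.nrm (Q8.dec w) = (⟨4, 0⟩ : P2) := by
    have e2 : Q8.toH (Q8.dec w) = star (unitH u) * Q8.toH x := by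
      rw [← e1, ← mul_assoc]; exact ((congrArg (· * _) u4).trans (one_mul _)).symm
    have e3 : Q8.toH (Q8.dec w) * Q8.toH (Q8.conj (Q8.dec w)) = Q8.toH Q8.one := by
      rw [Q8.toH_conj (Q8.dec w), e2, star_mul, star_star, mul_assoc, ← mul_assoc (Q8.toH x), ← Q8.toH_conj, h,
        Q8.toH_one, one_mul, u4]
    rw [← Q8.raw_conj_r, Q8.raw_of_mul e3]; decide
  have h1 := (List.all_eq_true.mp unit_head_ok) w hw
  rw [hwn] at h1
  simp only [beq_self_eq_true, Bool.not_true, Bool.false_or, List.all_eq_true, Bool.and_eq_true,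
    List.contains_iff_mem, beq_iff_eq] at h1
  obtain ⟨m, d⟩ := h1 u hu
  refine ⟨_, m, ?_⟩
  rw [unitH, d, Q8.qmul, e, Short.half_smul]

/-- Index range. -/
abbrev Ix : Type := Fin 315

/-- The minimal vector of a line. -/
noncomputable def lineV (i : Ix) : icoLeech := ⟨(repAt i).toV, (rep_min i.isLt).1⟩

theorem line_norm (i : Ix) : qip (repAt i).toV (repAt i).toV = 4 := (rep_min i.isLt).2

/-- The image of a line under a root reflection. -/
def tgt (j : Fin 6) (i : Ix) : ℕ := (actAt j i).1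

theorem act_spec (j : Fin 6) (i : Ix) : ∃ h : tgt j i < 315, ∃ u ∈ Data.unitsN,
    qrefl (repAt j).toV (repAt i).toV = lmul (unitH u) (repAt (⟨tgt j i, h⟩ : Ix)).toV := by
  have h := (List.all_eq_true.mp ((List.all_eq_true.mp act_ok) j (List.mem_range.mpr j.isLt))) i
    (List.mem_range.mpr i.isLt)
  rw [actOK] at h
  split at h
  · rename_i rs vs c p h1 h2 h3 h4
    obtain ⟨a, b, d⟩ := rs
    obtain ⟨a', b', d'⟩ := vs
    obtain ⟨t, u⟩ := p
    have hp : actAt j i = (t, u) := by rw [actAt, List.getD_eq_getElem?_getD, h4, Option.getD_some]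
    rw [imgOK] at h
    split at h
    · rename_i e f g h6
      have ht : tgt j i = t := by rw [tgt, hp]
      have hlt : t < 315 := by
        obtain ⟨hl, -⟩ := List.getElem?_eq_some_iff.mp h6
        rw [Minimal.reps_nodup.2] at hl; exact hl
      refine ⟨ht ▸ hlt, u, ?_⟩
      simp only [Bool.and_eq_true, beq_iff_eq, List.contains_iff_mem, coordOK] at h
      obtain ⟨⟨⟨⟨q0, qu⟩, q1⟩, q2⟩, q3⟩ := h
      refine ⟨qu, ?_⟩
      simp only [repAt, List.getD_eq_getElem?_getD, h1, h2, ht, h6, Option.getD_some]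
      funext k
      have hc : (1 / 2 : ℝ) • qip (V3.toV ⟨Q8.dec a', Q8.dec b', Q8.dec d'⟩) (V3.toV ⟨Q8.dec a, Q8.dec b, Q8.dec d⟩) =
          Q8.toH (Q8.dec c) := by
        rw [V3.qip_toV, q0, Q8.toH_smul, smul_smul, smul_smul]
        norm_num
      have eqn : ∀ {r v w : Q8}, (Q8.raw (Q8.dec c) r).add (Q8.raw (Q8.dec u) w) = Q8.smul 2 v →
          Q8.toH v - Q8.toH (Q8.dec c) * Q8.toH r = unitH u * Q8.toH w := fun {r v w} e => by
        have := congrArg Q8.toH e
        rw [Q8.toH_add, Q8.toH_raw, Q8.toH_raw, Q8.toH_smul, ← smul_add] at this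
        have h2 := smul_right_injective ℍ[ℝ] (by norm_num : (2 : ℝ) ≠ 0) (by exact_mod_cast this)
        rw [← h2, unitH]; abel
      simp only [qrefl, hc, lmul]
      fin_cases k <;> simp [V3.toV, eqn q1, eqn q2, eqn q3]
    · simp at h
  · simp at h

/-- The roots as lines. -/
def root (j : Fin 6) : Ix := ⟨j, lt_of_lt_of_le j.isLt (by norm_num)⟩

theorem root_maps (j : Fin 6) {x : HV} (hx : x ∈ icoLeech) : qrefl (repAt (root j)).toV x ∈ icoLeech := by
  have h := List.all_eq_true.mp ((List.all_eq_true.mp basis_refl_ok) j (List.mem_range.mpr j.isLt))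
  have h' : ∀ v ∈ [b1, b2, b3], qrefl (repAt (root j)).toV v.toV ∈ icoLeech := fun v hv => by
    have := h v hv
    simp only [Bool.and_eq_true] at this
    exact (refl_spec this.1).symm ▸ (V3.mem_iff _).mpr this.2
  let G := reflIso _ (line_norm (root j))
  exact map_lattice G.add G.lin (h' b1 (by simp)) (h' b2 (by simp)) (h' b3 (by simp)) hx

/-- The root reflections as permutations. -/
noncomputable def rootRefl (j : Fin 6) : Equiv.Perm icoLeech :=
  Function.Involutive.toPerm (fun x => ⟨qrefl (repAt (root j)).toV x, root_maps j x.2⟩)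
    (fun x => Subtype.ext (qrefl_qrefl (line_norm (root j)) x))

/-- The group generated by the root reflections. -/
noncomputable def six : Subgroup (Equiv.Perm icoLeech) := closure (Set.range rootRefl)

theorem exists_refl : ∀ n : ℕ, ∀ h : n < 315, ∃ f ∈ six, ∀ x : icoLeech,
    ((f x : icoLeech) : HV) = qrefl (repAt (⟨n, h⟩ : Ix)).toV x := by
  intro n
  induction n using Nat.strong_induction_on with
  | _ n ih =>
    intro h
    by_cases h6 : n < 6
    · exact ⟨rootRefl ⟨n, h6⟩, subset_closure ⟨_, rfl⟩, fun x => rfl⟩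
    · obtain ⟨k, rfl⟩ : ∃ k, n = k + 6 := ⟨n - 6, by omega⟩
      have hk := (List.all_eq_true.mp tree_ok) k (List.mem_range.mpr (by omega))
      simp only [Bool.and_eq_true, decide_eq_true_eq, beq_iff_eq] at hk
      obtain ⟨⟨hj, hp⟩, he⟩ := hk
      set j : Fin 6 := ⟨(Data.par.getD k (0, 0)).1, hj⟩ with hjdef
      have hp' : (Data.par.getD k (0, 0)).2 < 315 := by omega
      obtain ⟨f, hf, hfx⟩ := ih _ hp hp'
      obtain ⟨ht, u, hu, hact⟩ := act_spec j ⟨_, hp'⟩
      refine ⟨rootRefl j * f * rootRefl j,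
        mul_mem (mul_mem (subset_closure ⟨j, rfl⟩) hf) (subset_closure ⟨j, rfl⟩), fun x => ?_⟩
      show qrefl (repAt (root j)).toV (f (rootRefl j x)) = _
      rw [hfx]
      show (reflIso _ (line_norm (root j))).F (qrefl _ ((reflIso _ (line_norm (root j))).F x)) = _
      rw [qrefl_map]
      show qrefl (qrefl (repAt (root j)).toV _) (qrefl _ (qrefl _ _)) = _
      rw [qrefl_qrefl (line_norm (root j))]
      have : (⟨tgt j ⟨_, hp'⟩, ht⟩ : Ix) = ⟨k + 6, h⟩ := Fin.ext he
      rw [show qrefl (repAt (root j)).toV (repAt (⟨_, hp'⟩ : Ix)).toV =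
        lmul (unitH u) (repAt (⟨k + 6, h⟩ : Ix)).toV from this ▸ hact]
      exact qrefl_lmul_unit (unit_spec hu).2.2.2 _ _

/-- The reflection of a line. -/
noncomputable def refl (i : Ix) : Equiv.Perm icoLeech := (exists_refl i i.isLt).choose

theorem refl_mem (i : Ix) : refl i ∈ six := (exists_refl i i.isLt).choose_spec.1

theorem refl_apply (i : Ix) (x : icoLeech) : ((refl i x : icoLeech) : HV) = qrefl (repAt i).toV x :=
  (exists_refl i i.isLt).choose_spec.2 x

theorem rootRefl_eq (j : Fin 6) : rootRefl j = refl (root j) :=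
  Equiv.ext fun x => Subtype.ext (refl_apply (root j) x).symm

theorem isRefl (i : Ix) : IsIcoReflection (refl i) := ⟨lineV i, line_norm i, refl_apply i⟩

theorem refl_cases {f : Equiv.Perm icoLeech} (hf : IsIcoReflection f) : ∃ i : Ix, f = refl i := by
  obtain ⟨r, hr, hx⟩ := hf
  obtain ⟨u, hu, i, hi, e⟩ := min_cases r.2 hr
  refine ⟨⟨i, hi⟩, Equiv.ext fun x => Subtype.ext ?_⟩
  rw [hx, refl_apply, e]
  exact qrefl_lmul_unit (unit_spec hu).2.2.2 _ _

theorem twoJ2_eq : twoJ2 = six := by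
  apply le_antisymm
  · refine (closure_le _).mpr fun f hf => ?_
    obtain ⟨i, rfl⟩ := refl_cases hf
    exact refl_mem i
  · refine (closure_le _).mpr ?_
    rintro _ ⟨j, rfl⟩
    exact rootRefl_eq j ▸ subset_closure (isRefl _)

theorem refl_mem_twoJ2 (i : Ix) : refl i ∈ twoJ2 := subset_closure (isRefl i)

/-- The group on one hundred points. -/
abbrev J : Subgroup (Equiv.Perm (Fin 100)) := PermChain.grp 100 (HallJankoData.level1 :: HallJanko.chain₁)

/-- The involution of a line. -/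
def invol (i : Ix) : Equiv.Perm (Fin 100) := PermChain.toPerm 100 (involN i)

theorem invol_okAt (i : Ix) : PermChain.ok 100 (involN i) = true :=
  (List.all_eq_true.mp invol_ok) i (List.mem_range.mpr i.isLt)

theorem gens_eq : PermChain.gensOf (HallJankoData.level1 :: HallJanko.chain₁) = (List.range 6).map involN :=
  (eq_of_beq roots_ok).symm

theorem J_eq : J = closure (Set.range fun j : Fin 6 => invol (root j)) := by
  refine congrArg Subgroup.closure (Set.ext fun σ => ?_)
  simp only [Set.mem_ofPred_eq, gens_eq, List.mem_map, List.mem_range, Set.mem_range]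
  constructor
  · rintro ⟨e, ⟨a, ha, rfl⟩, rfl⟩; exact ⟨⟨a, ha⟩, rfl⟩
  · rintro ⟨j, rfl⟩; exact ⟨_, ⟨j, j.isLt, rfl⟩, rfl⟩

theorem invol_root_mem (j : Fin 6) : invol (root j) ∈ J := J_eq ▸ subset_closure ⟨j, rfl⟩

theorem invol_sq (i : Ix) : invol i * invol i = 1 := by
  refine Equiv.ext fun x => Fin.ext ?_
  have h := PermChain.rep_fst (invol_okAt i)
  have hx := ((PermChain.ok_iff.mp (invol_okAt i)) x x.isLt).2.2.1
  rw [Equiv.Perm.mul_apply, Equiv.Perm.one_apply]
  show (invol i (invol i x) : ℕ) = x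
  rw [invol, ← h _, ← h _]
  exact hx

theorem conj_spec (j : Fin 6) (i : Ix) (h : tgt j i < 315) :
    invol (root j) * invol i * (invol (root j))⁻¹ = invol ⟨tgt j i, h⟩ := by
  rw [inv_eq_of_mul_eq_one_right (invol_sq (root j))]
  have hc := (List.all_eq_true.mp ((List.all_eq_true.mp conj_ok) j (List.mem_range.mpr j.isLt))) i
    (List.mem_range.mpr i.isLt)
  rw [conjOK] at hc
  split at hc
  · rename_i s t p h1 h2 h3
    rw [conjSame] at hc
    split at hc
    · rename_i w h4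
      refine Equiv.ext fun x => Fin.ext ?_
      have e := beq_iff_eq.mp ((List.all_eq_true.mp hc) x (List.mem_range.mpr x.isLt))
      have hp : tgt j i = p.1 := by rw [tgt, actAt, List.getD_eq_getElem?_getD, h3, Option.getD_some]
      have hs : (involN (root j)).1 = s := by simp only [involN, root, List.getD_eq_getElem?_getD, h1, Option.getD_some]
      have ht : (involN i).1 = t := by simp only [involN, List.getD_eq_getElem?_getD, h2, Option.getD_some]
      have hw : (involN (⟨tgt j i, h⟩ : Ix)).1 = w := by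
        simp only [involN, List.getD_eq_getElem?_getD, hp, h4, Option.getD_some]
      have rs := PermChain.rep_fst (invol_okAt (root j))
      have rt := PermChain.rep_fst (invol_okAt i)
      have rw' := PermChain.rep_fst (invol_okAt ⟨tgt j i, h⟩)
      rw [hs] at rs; rw [ht] at rt; rw [hw] at rw'
      simp only [Equiv.Perm.mul_apply, invol]
      rw [← rs, ← rt, ← rs, ← rw']
      exact e
    · simp at hc
  · simp at hc

theorem invol_injective : Function.Injective invol := by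
  have key : ∀ i j : Ix, (j : ℕ) < i → invol i ≠ invol j := fun i j hji e => by
    have h := (List.all_eq_true.mp ((List.all_eq_true.mp invol_distinct) i (List.mem_range.mpr i.isLt))) j
      (List.mem_range.mpr hji)
    rw [HallJanko.same_of_eq (PermChain.rep_fst (invol_okAt i))
      (show PermChain.Rep (involN j).1 (invol i) from e ▸ PermChain.rep_fst (invol_okAt j))] at h
    exact absurd h (by simp)
  intro i j e
  rcases lt_trichotomy (i : ℕ) j with h | h | h
  exacts [absurd e.symm (key j i h), Fin.ext h, absurd e (key i j h)]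

theorem J_simple : IsSimpleGroup J := HallJanko.isJ2.1

theorem card_J : Nat.card J = 604800 := HallJanko.card_G

theorem J_not_comm : ∃ a b : J, a * b ≠ b * a := by
  by_contra hc
  push Not at hc
  haveI := J_simple
  letI : CommGroup J := { (inferInstance : Group J) with mul_comm := hc }
  have := IsSimpleGroup.prime_card (α := J)
  rw [card_J] at this
  norm_num at this

theorem center_J : Subgroup.center J = ⊥ := by
  haveI := J_simple
  refine (Subgroup.Normal.eq_bot_or_eq_top (inferInstance : (Subgroup.center J).Normal)).resolve_right fun h => ?_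
  obtain ⟨a, b, hab⟩ := J_not_comm
  exact hab (Subgroup.mem_center_iff.mp (h ▸ Subgroup.mem_top b : b ∈ Subgroup.center J) a)

/-- A lattice permutation and a permutation of one hundred points moving the lines alike. -/
def Rel (g : Equiv.Perm icoLeech) (τ : Equiv.Perm (Fin 100)) : Prop :=
  τ ∈ J ∧ ∃ G : Iso3, (∀ x : icoLeech, ((g x : icoLeech) : HV) = G.F x) ∧
    ∀ i : Ix, ∃ u : ℍ[ℝ], (u ∈ icosians ∧ u * star u = 1) ∧ ∃ j : Ix,
      G.F (repAt i).toV = lmul u (repAt j).toV ∧ τ * invol i * τ⁻¹ = invol j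

/-- The identity isometry. -/
noncomputable def idIso : Iso3 := ⟨id, fun _ _ => rfl, fun _ _ => rfl, fun _ _ => rfl⟩

/-- Composition of isometries. -/
noncomputable def compIso (G H : Iso3) : Iso3 :=
  ⟨G.F ∘ H.F, fun x y => by simp [H.add, G.add], fun a x => by simp [H.lin, G.lin],
    fun x y => by simp [G.iso, H.iso]⟩

theorem rel_one : Rel 1 1 :=
  ⟨one_mem _, idIso, fun _ => rfl, fun i => ⟨1, ⟨one_mem _, by simp⟩, i, (one_lmul _).symm, by simp⟩⟩

theorem rel_mul {g g' : Equiv.Perm icoLeech} {τ τ' : Equiv.Perm (Fin 100)} (h : Rel g τ) (h' : Rel g' τ') :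
    Rel (g * g') (τ * τ') := by
  obtain ⟨hm, G, hG, hl⟩ := h; obtain ⟨hm', G', hG', hl'⟩ := h'
  refine ⟨mul_mem hm hm', compIso G G', fun x => ?_, fun i => ?_⟩
  · show ((g (g' x) : icoLeech) : HV) = G.F (G'.F x); rw [hG, hG']
  · obtain ⟨u, hu, j, e, c⟩ := hl' i
    obtain ⟨u', hu', k, e', c'⟩ := hl j
    refine ⟨u * u', ⟨mul_mem hu.1 hu'.1, by rw [star_mul, mul_assoc, ← mul_assoc u', hu'.2, one_mul, hu.2]⟩, k, ?_, ?_⟩
    · show G.F (G'.F _) = _; rw [e, G.lin, e', lmul_lmul]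
    · rw [← c', ← c]; group

theorem rel_root (j : Fin 6) : Rel (rootRefl j) (invol (root j)) := by
  refine ⟨invol_root_mem j, reflIso _ (line_norm (root j)), fun x => rfl, fun i => ?_⟩
  obtain ⟨h, u, hu, e⟩ := act_spec j i
  exact ⟨unitH u, ⟨(unit_spec hu).1, (unit_spec hu).2.2.1⟩, _, e, conj_spec j i h⟩

theorem rootRefl_inv (j : Fin 6) : (rootRefl j)⁻¹ = rootRefl j :=
  inv_eq_of_mul_eq_one_right (Equiv.ext fun x => Subtype.ext (qrefl_qrefl (line_norm (root j)) x))

theorem exists_rel {g : Equiv.Perm icoLeech} (hg : g ∈ six) : ∃ τ, Rel g τ := by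
  refine closure_induction_left (p := fun g _ => ∃ τ, Rel g τ) ⟨1, rel_one⟩ ?_ ?_ hg
  · rintro _ ⟨j, rfl⟩ y _ ⟨τ, h⟩; exact ⟨_, rel_mul (rel_root j) h⟩
  · rintro _ ⟨j, rfl⟩ y _ ⟨τ, h⟩; rw [rootRefl_inv]; exact ⟨_, rel_mul (rel_root j) h⟩

theorem line_unique {i j : Ix} {u v : ℍ[ℝ]} (hu : u ∈ icosians ∧ u * star u = 1) (hv : v ∈ icosians ∧ v * star v = 1)
    (h : lmul u (repAt i).toV = lmul v (repAt j).toV) : i = j := by
  obtain ⟨a, ha, rfl⟩ := mem_units hu.1 hu.2
  obtain ⟨b, hb, rfl⟩ := mem_units hv.1 hv.2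
  exact Fin.ext (rep_lines i.isLt j.isLt ha hb h).2

theorem rel_conj {g : Equiv.Perm icoLeech} {τ : Equiv.Perm (Fin 100)} (h : Rel g τ) (i : Ix) :
    ∃ j : Ix, g * refl i * g⁻¹ = refl j ∧ τ * invol i * τ⁻¹ = invol j := by
  obtain ⟨-, G, hG, hl⟩ := h
  obtain ⟨u, hu, j, e, c⟩ := hl i
  refine ⟨j, ?_, c⟩
  rw [mul_inv_eq_iff_eq_mul]
  refine Equiv.ext fun x => Subtype.ext ?_
  show ((g (refl i x) : icoLeech) : HV) = refl j (g x)
  rw [hG, refl_apply, qrefl_map, refl_apply, hG, e]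
  exact qrefl_lmul_unit (mul_eq_one_comm.mp hu.2) _ _

theorem J_eq_closure : J = closure (Set.range invol) := by
  refine le_antisymm ?_ ((closure_le _).mpr ?_)
  · rw [J_eq]; exact closure_mono (Set.range_subset_iff.mpr fun j => ⟨_, rfl⟩)
  · rintro _ ⟨i, rfl⟩
    have hmem : refl i ∈ six := refl_mem i
    induction hi : (i : ℕ) using Nat.strong_induction_on generalizing i with
    | _ n ih =>
      by_cases h6 : n < 6
      · rw [show i = root ⟨n, h6⟩ from Fin.ext hi]; exact invol_root_mem _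
      · have hk := (List.all_eq_true.mp tree_ok) (n - 6) (List.mem_range.mpr (by omega))
        simp only [Bool.and_eq_true, decide_eq_true_eq, beq_iff_eq] at hk
        obtain ⟨⟨hj, hp⟩, he⟩ := hk
        have hp' : (Data.par.getD (n - 6) (0, 0)).2 < 315 := by omega
        have he' : tgt ⟨_, hj⟩ ⟨_, hp'⟩ = n := by rw [tgt]; simp only; omega
        have := conj_spec ⟨_, hj⟩ ⟨_, hp'⟩ (by omega)
        rw [show (⟨tgt ⟨_, hj⟩ ⟨_, hp'⟩, _⟩ : Ix) = i from Fin.ext (by simp only [he', hi])] at this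
        rw [← this]
        exact J.mul_mem (J.mul_mem (invol_root_mem _) (ih _ (show (Data.par.getD (n - 6) (0, 0)).2 < n by omega) ⟨_, hp'⟩ (refl_mem _) rfl))
          (J.inv_mem (invol_root_mem _))

theorem rel_unique {g : Equiv.Perm icoLeech} {τ τ' : Equiv.Perm (Fin 100)} (h : Rel g τ) (h' : Rel g τ') :
    τ = τ' := by
  obtain ⟨hm, G, hG, hl⟩ := h; obtain ⟨hm', G', hG', hl'⟩ := h'
  have hc : ∀ i, τ * invol i * τ⁻¹ = τ' * invol i * τ'⁻¹ := fun i => by
    obtain ⟨u, hu, j, e, c⟩ := hl i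
    obtain ⟨v, hv, k, e', c'⟩ := hl' i
    have : j = k := line_unique hu hv (by
      rw [← e, ← e']; exact (hG (lineV i)).symm.trans (hG' (lineV i)))
    rw [c, c', this]
  have hz : ∀ σ ∈ J, τ * σ * τ⁻¹ = τ' * σ * τ'⁻¹ := by
    intro σ hσ
    rw [J_eq_closure] at hσ
    exact MonoidHom.eqOn_closure (f := (MulAut.conj τ).toMonoidHom)
      (g := (MulAut.conj τ').toMonoidHom) (s := Set.range invol) (by rintro _ ⟨i, rfl⟩; exact hc i) hσ
  have hcen : (⟨τ'⁻¹ * τ, mul_mem (inv_mem hm') hm⟩ : J) ∈ Subgroup.center J := by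
    rw [Subgroup.mem_center_iff]
    rintro ⟨σ, hσ⟩
    refine Subtype.ext ?_
    show σ * (τ'⁻¹ * τ) = τ'⁻¹ * τ * σ
    calc σ * (τ'⁻¹ * τ) = τ'⁻¹ * (τ' * σ * τ'⁻¹) * τ := by group
      _ = τ'⁻¹ * (τ * σ * τ⁻¹) * τ := by rw [hz σ hσ]
      _ = τ'⁻¹ * τ * σ := by group
  rw [center_J, Subgroup.mem_bot] at hcen
  exact (inv_mul_eq_one.mp (congrArg Subtype.val hcen)).symm

theorem exists_rel' (g : twoJ2) : ∃ τ, Rel (g : Equiv.Perm icoLeech) τ := exists_rel (twoJ2_eq ▸ g.2)

/-- The map to the group on one hundred points. -/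
noncomputable def toJ : twoJ2 →* J :=
  MonoidHom.mk' (fun g => ⟨(exists_rel' g).choose, (exists_rel' g).choose_spec.1⟩) fun g h =>
    Subtype.ext (rel_unique (exists_rel' (g * h)).choose_spec
      (rel_mul (exists_rel' g).choose_spec (exists_rel' h).choose_spec))

theorem toJ_spec (g : twoJ2) : Rel (g : Equiv.Perm icoLeech) (toJ g : Equiv.Perm (Fin 100)) :=
  (exists_rel' g).choose_spec

theorem toJ_refl (i : Ix) : ((toJ ⟨refl i, refl_mem_twoJ2 i⟩ : J) : Equiv.Perm (Fin 100)) = invol i := by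
  suffices h : Rel (refl i) (invol i) from rel_unique (toJ_spec _) h
  induction hi : (i : ℕ) using Nat.strong_induction_on generalizing i with
  | _ n ih =>
    by_cases h6 : n < 6
    · rw [show i = root ⟨n, h6⟩ from Fin.ext hi, ← rootRefl_eq]; exact rel_root _
    · have hk := (List.all_eq_true.mp tree_ok) (n - 6) (List.mem_range.mpr (by omega))
      simp only [Bool.and_eq_true, decide_eq_true_eq, beq_iff_eq] at hk
      obtain ⟨⟨hj, hp⟩, he⟩ := hk
      have hp' : (Data.par.getD (n - 6) (0, 0)).2 < 315 := by omega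
      have he' : tgt ⟨_, hj⟩ ⟨_, hp'⟩ = n := by rw [tgt]; simp only; omega
      obtain ⟨j', e1, e2⟩ := rel_conj (rel_root ⟨_, hj⟩) ⟨_, hp'⟩
      rw [conj_spec _ _ (by omega)] at e2
      have hji : j' = i := (invol_injective e2).symm.trans (Fin.ext (by simp only [he', hi]))
      rw [hji] at e1
      rw [← e1, ← show invol (root ⟨_, hj⟩) * invol ⟨_, hp'⟩ * (invol (root ⟨_, hj⟩))⁻¹ = invol i by
        rw [conj_spec _ _ (by omega), invol_injective e2, hji], rootRefl_inv,
        inv_eq_of_mul_eq_one_right (invol_sq (root ⟨_, hj⟩))]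
      exact rel_mul (rel_mul (rel_root _) (ih _ (show (Data.par.getD (n - 6) (0, 0)).2 < n by omega) ⟨_, hp'⟩ rfl)) (rel_root _)

theorem toJ_surjective : Function.Surjective toJ := by
  rw [← MonoidHom.range_eq_top, eq_top_iff]
  rintro ⟨σ, hσ⟩ -
  have : J ≤ toJ.range.map J.subtype := by
    refine le_trans J_eq.le ((closure_le _).mpr ?_)
    rintro _ ⟨j, rfl⟩
    exact ⟨_, ⟨⟨refl (root j), refl_mem_twoJ2 _⟩, rfl⟩, toJ_refl (root j)⟩
  obtain ⟨a, ha, e⟩ := this hσ
  exact (show a = ⟨σ, hσ⟩ from Subtype.ext e) ▸ ha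

/-- The quaternion used in the test vectors. -/
def aQ : Q8 := ⟨⟨-2, 0⟩, ⟨-2, 0⟩, ⟨0, 0⟩, ⟨0, 0⟩⟩

/-- The test vectors. -/
def probes : List V3 :=
  [⟨aQ, aQ, Q8.zero⟩, ⟨aQ, Q8.zero, aQ⟩,
   ⟨aQ, Q8.qmul aQ ⟨⟨0, 0⟩, ⟨2, 0⟩, ⟨0, 0⟩, ⟨0, 0⟩⟩, Q8.zero⟩,
   ⟨aQ, Q8.qmul aQ ⟨⟨0, 0⟩, ⟨0, 0⟩, ⟨2, 0⟩, ⟨0, 0⟩⟩, Q8.zero⟩,
   ⟨Q8.smul 2 Q8.one, Q8.zero, Q8.zero⟩, ⟨Q8.zero, Q8.smul 2 Q8.one, Q8.zero⟩, ⟨Q8.zero, Q8.zero, Q8.smul 2 Q8.one⟩]

theorem probes_ok : (probes.all fun v => V3.lat v && (V3.ip v v == Q8.smul 8 Q8.one)) = true := by decide +kernel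

theorem probe_min {v : V3} (hv : v ∈ probes) : v.toV ∈ icoLeech ∧ qip v.toV v.toV = 4 := by
  have := (List.all_eq_true.mp probes_ok) v hv
  simp only [Bool.and_eq_true, beq_iff_eq] at this
  exact isMin_iff.mp this

/-- Fixing every line forces a sign. -/
theorem sign_of_fixes (G : Iso3) (h : ∀ v ∈ probes, ∃ u : ℍ[ℝ], G.F v.toV = lmul u v.toV) :
    (∀ x : HV, G.F x = x) ∨ ∀ x : HV, G.F x = -x := by
  have lin : ∀ x : HV, G.F x = lmul (x 0) (G.F ![1, 0, 0]) + lmul (x 1) (G.F ![0, 1, 0]) + lmul (x 2) (G.F ![0, 0, 1]) :=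
    fun x => by
      rw [← G.lin, ← G.lin, ← G.lin, ← G.add, ← G.add]; congr 1
      funext t; fin_cases t <;> simp [lmul]
  have ax : ∀ (v : V3) (e : HV), v ∈ probes → v.toV = lmul 2 e → ∃ u, G.F e = lmul u e := fun v e hv he => by
    obtain ⟨u, hu⟩ := h v hv
    refine ⟨u, ?_⟩
    rw [he, G.lin, lmul_lmul] at hu
    funext t
    have := congrFun hu t
    simp only [lmul] at this ⊢
    have h2 : u * 2 = 2 * u := (mul_two u).trans (two_mul u).symm
    rw [h2, mul_assoc] at this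
    exact mul_left_cancel₀ (fun hh => by
      rw [show (2 : ℍ[ℝ]) = (2 : ℝ) • (1 : ℍ[ℝ]) by rw [← Algebra.algebraMap_eq_smul_one, map_ofNat]] at hh
      simpa using congrArg QuaternionAlgebra.re hh) this
  have two : Q8.toH (Q8.smul 2 Q8.one) = 2 := by
    rw [Q8.toH_smul, Q8.toH_one, ← Algebra.algebraMap_eq_smul_one]; norm_num [map_ofNat]
  obtain ⟨v0, e0⟩ := ax ⟨Q8.smul 2 Q8.one, Q8.zero, Q8.zero⟩ ![1, 0, 0] (by simp [probes])
    (funext fun t => by fin_cases t <;> simp [V3.toV, lmul, two, Q8.toH_zero])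
  obtain ⟨v1, e1⟩ := ax ⟨Q8.zero, Q8.smul 2 Q8.one, Q8.zero⟩ ![0, 1, 0] (by simp [probes])
    (funext fun t => by fin_cases t <;> simp [V3.toV, lmul, two, Q8.toH_zero])
  obtain ⟨v2, e2⟩ := ax ⟨Q8.zero, Q8.zero, Q8.smul 2 Q8.one⟩ ![0, 0, 1] (by simp [probes])
    (funext fun t => by fin_cases t <;> simp [V3.toV, lmul, two, Q8.toH_zero])
  have diag : ∀ x : HV, G.F x = ![x 0 * v0, x 1 * v1, x 2 * v2] := fun x => by
    rw [lin x, e0, e1, e2]; funext t; fin_cases t <;> simp [lmul]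
  have ha : Q8.toH aQ ≠ 0 := fun e => by
    rw [← Q8.toH_zero] at e; exact absurd (Q8.toH_injective e) (by decide)
  have two_coord : ∀ (v : V3), v ∈ probes → ∃ u, Q8.toH v.x * v0 = u * Q8.toH v.x ∧ Q8.toH v.y * v1 = u * Q8.toH v.y ∧
      Q8.toH v.z * v2 = u * Q8.toH v.z := fun v hv => by
    obtain ⟨u, hu⟩ := h v hv
    rw [diag] at hu
    exact ⟨u, by simpa [lmul, V3.toV] using congrFun hu 0, by simpa [lmul, V3.toV] using congrFun hu 1,
      by simpa [lmul, V3.toV] using congrFun hu 2⟩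
  obtain ⟨u, p0, p1, -⟩ := two_coord ⟨aQ, aQ, Q8.zero⟩ (by simp [probes])
  have h01 : v1 = v0 := mul_left_cancel₀ ha (p1.trans p0.symm)
  obtain ⟨u', q0, -, q2⟩ := two_coord ⟨aQ, Q8.zero, aQ⟩ (by simp [probes])
  have h02 : v2 = v0 := mul_left_cancel₀ ha (q2.trans q0.symm)
  have comm : ∀ k : Q8, Q8.inI k = true → (⟨aQ, Q8.qmul aQ k, Q8.zero⟩ : V3) ∈ probes →
      Q8.toH k * v0 = v0 * Q8.toH k := fun k hk hv => by
    obtain ⟨w, w0, w1, -⟩ := two_coord _ hv
    simp only at w0 w1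
    rw [(Q8.raw_even (by decide) hk).2.2, h01, mul_assoc, ← mul_assoc w, ← w0, mul_assoc] at w1
    exact mul_left_cancel₀ ha w1
  have ci := comm ⟨⟨0, 0⟩, ⟨2, 0⟩, ⟨0, 0⟩, ⟨0, 0⟩⟩ (by decide) (by simp [probes])
  have cj := comm ⟨⟨0, 0⟩, ⟨0, 0⟩, ⟨2, 0⟩, ⟨0, 0⟩⟩ (by decide) (by simp [probes])
  have r1 := congrArg QuaternionAlgebra.imK ci
  have r2 := congrArg QuaternionAlgebra.imJ ci
  have r3 := congrArg QuaternionAlgebra.imK cj
  simp [P2.toR] at r1 r2 r3
  have him : v0.imI = 0 ∧ v0.imJ = 0 ∧ v0.imK = 0 := ⟨by linarith, by linarith, by linarith⟩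
  have hn : v0.re * v0.re = 1 := by
    have := G.iso ![1, 0, 0] ![1, 0, 0]
    rw [e0] at this
    simp [qip, lmul, Fin.sum_univ_three] at this
    have h' := congrArg QuaternionAlgebra.re this
    simp [him.1, him.2.1, him.2.2] at h'
    exact h'
  rcases mul_self_eq_one_iff.mp hn with h1 | h1
  · left; intro x
    have : v0 = 1 := by ext <;> simp [h1, him.1, him.2.1, him.2.2]
    rw [diag, h01, h02, this]; funext t; fin_cases t <;> simp
  · right; intro x
    have : v0 = -1 := by ext <;> simp [h1, him.1, him.2.1, him.2.2]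
    rw [diag, h01, h02, this]; funext t; fin_cases t <;> simp

theorem neg_mem_lattice {x : HV} (hx : x ∈ icoLeech) : -x ∈ icoLeech := by
  have h := icoLeech_lmul (c := -1) (neg_mem (one_mem _)) hx
  rwa [show lmul (-1) x = -x from funext fun t => neg_one_mul _] at h

/-- Negation on the lattice. -/
noncomputable def negP : Equiv.Perm icoLeech :=
  Function.Involutive.toPerm (fun x => ⟨-(x : HV), neg_mem_lattice x.2⟩) fun x => Subtype.ext (neg_neg _)

theorem axis_refl (v : V3) (hv : v ∈ probes) : ∃ f ∈ twoJ2, ∀ x : icoLeech, ((f x : icoLeech) : HV) = qrefl v.toV x := by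
  obtain ⟨h1, h2⟩ := probe_min hv
  obtain ⟨u, hu, i, hi, e⟩ := min_cases h1 h2
  refine ⟨refl ⟨i, hi⟩, refl_mem_twoJ2 _, fun x => ?_⟩
  rw [refl_apply, e]
  exact (qrefl_lmul_unit (unit_spec hu).2.2.2 _ _).symm

theorem negP_mem : negP ∈ twoJ2 := by
  obtain ⟨a, ha, hax⟩ := axis_refl ⟨Q8.smul 2 Q8.one, Q8.zero, Q8.zero⟩ (by simp [probes])
  obtain ⟨b, hb, hbx⟩ := axis_refl ⟨Q8.zero, Q8.smul 2 Q8.one, Q8.zero⟩ (by simp [probes])
  obtain ⟨c, hc, hcx⟩ := axis_refl ⟨Q8.zero, Q8.zero, Q8.smul 2 Q8.one⟩ (by simp [probes])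
  have : negP = a * b * c := Equiv.ext fun x => Subtype.ext (by
    show -(x : HV) = ((a (b (c x)) : icoLeech) : HV)
    rw [hax, hbx, hcx]
    funext t
    fin_cases t <;>
      simp [qrefl, qip, Fin.sum_univ_three, V3.toV, Q8.toH_zero, Q8.toH_smul, Q8.toH_one] <;>
      (ext <;> simp <;> ring))
  exact this ▸ mul_mem (mul_mem ha hb) hc

/-- The central involution. -/
noncomputable def negOne : twoJ2 := ⟨negP, negP_mem⟩

theorem negOne_ne : negOne ≠ 1 := fun e => by
  have := congrArg (fun g : twoJ2 => (((g : Equiv.Perm icoLeech) (lineV 0) : icoLeech) : HV)) e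
  have h := (rep_min (i := 0) (by norm_num)).2
  rw [show (repAt 0).toV = (0 : HV) from by
    have h0 : -(repAt 0).toV = (repAt 0).toV := this
    funext t; have := congrFun h0 t; simp only [Pi.neg_apply] at this
    have c1 := congrArg QuaternionAlgebra.re this; have c2 := congrArg QuaternionAlgebra.imI this
    have c3 := congrArg QuaternionAlgebra.imJ this; have c4 := congrArg QuaternionAlgebra.imK this
    simp at c1 c2 c3 c4
    ext <;> simp <;> linarith] at h
  rw [show qip (0 : HV) 0 = 0 by simp [qip]] at h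
  rw [four_eq] at h
  simpa using congrArg QuaternionAlgebra.re h

theorem negP_comm (g : twoJ2) : negOne * g = g * negOne := by
  obtain ⟨-, G, hG, -⟩ := toJ_spec g
  refine Subtype.ext (Equiv.ext fun x => Subtype.ext ?_)
  show -(((g : Equiv.Perm icoLeech) x : icoLeech) : HV) = (((g : Equiv.Perm icoLeech) (negP x) : icoLeech) : HV)
  rw [hG, hG]
  show -G.F _ = G.F (-(x : HV))
  rw [show ∀ z : HV, -z = lmul (-1) z from fun z => funext fun t => (neg_one_mul _).symm,
    show ∀ z : HV, -z = lmul (-1) z from fun z => funext fun t => (neg_one_mul _).symm, G.lin]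

theorem ker_cases {g : twoJ2} (hg : toJ g = 1) : g = 1 ∨ g = negOne := by
  obtain ⟨-, G, hG, hl⟩ := toJ_spec g
  rw [hg] at hl
  have hfix : ∀ i : Ix, ∃ u, G.F (repAt i).toV = lmul u (repAt i).toV := fun i => by
    obtain ⟨u, -, j, e, c⟩ := hl i
    simp only [OneMemClass.coe_one, one_mul, inv_one, mul_one] at c
    exact ⟨u, invol_injective c ▸ e⟩
  rcases sign_of_fixes G (fun v hv => by
    obtain ⟨u, hu, i, hi, e⟩ := min_cases (probe_min hv).1 (probe_min hv).2
    obtain ⟨w, hw⟩ := hfix ⟨i, hi⟩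
    exact ⟨unitH u * w * star (unitH u), by
      rw [e, G.lin, hw, lmul_lmul, lmul_lmul, mul_assoc (unitH u * w), (unit_spec hu).2.2.2, mul_one]⟩) with h | h
  · exact Or.inl (Subtype.ext (Equiv.ext fun x => Subtype.ext ((hG x).trans (h x))))
  · exact Or.inr (Subtype.ext (Equiv.ext fun x => Subtype.ext ((hG x).trans (h x))))

theorem ker_eq_center : toJ.ker = Subgroup.center twoJ2 := by
  refine le_antisymm (fun g hg => ?_) fun g hg => ?_
  · rw [Subgroup.mem_center_iff]
    intro h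
    rcases ker_cases hg with rfl | rfl
    · rw [one_mul, mul_one]
    · exact (negP_comm h).symm
  · have h : toJ g ∈ Subgroup.center J := by
      rw [Subgroup.mem_center_iff]
      intro σ
      obtain ⟨h, rfl⟩ := toJ_surjective σ
      rw [← map_mul, ← map_mul, Subgroup.mem_center_iff.mp hg h]
    rwa [center_J, Subgroup.mem_bot] at h

theorem toJ_negOne : toJ negOne = 1 := by
  have h : negOne ∈ Subgroup.center twoJ2 := Subgroup.mem_center_iff.mpr fun h => (negP_comm h).symm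
  rwa [← ker_eq_center] at h

theorem card_center : Nat.card (Subgroup.center twoJ2) = 2 := by
  rw [← ker_eq_center]
  have : (toJ.ker : Set twoJ2) = {1, negOne} := by
    ext g
    simp only [SetLike.mem_coe, MonoidHom.mem_ker, Set.mem_insert_iff, Set.mem_singleton_iff]
    exact ⟨ker_cases, by rintro (rfl | rfl); exacts [map_one _, toJ_negOne]⟩
  rw [← SetLike.coe_sort_coe, Nat.card_coe_set_eq, this, Set.ncard_pair (Ne.symm negOne_ne)]

/-- The isomorphism with the group on one hundred points. -/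
noncomputable def equivJ : J2 ≃* J :=
  (QuotientGroup.quotientMulEquivOfEq ker_eq_center.symm).trans
    (QuotientGroup.quotientKerEquivOfSurjective toJ toJ_surjective)

theorem card_twoJ2 : Nat.card twoJ2 = 1209600 := by
  rw [Subgroup.card_eq_card_quotient_mul_card_subgroup (Subgroup.center twoJ2), card_center,
    Nat.card_congr equivJ.toEquiv, card_J]

end CfsgLib.Sporadic.Icosian

namespace CfsgLib.Sporadic.Icosian

open Cfsg.Spor

theorem exists_conj_root (i : Ix) : ∃ g ∈ twoJ2, ∃ j : Fin 6, g * refl (root j) * g⁻¹ = refl i := by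
  induction hi : (i : ℕ) using Nat.strong_induction_on generalizing i with
  | _ n ih =>
    by_cases h6 : n < 6
    · exact ⟨1, one_mem _, ⟨n, h6⟩, by rw [show i = root ⟨n, h6⟩ from Fin.ext hi]; simp⟩
    · have hk := (List.all_eq_true.mp tree_ok) (n - 6) (List.mem_range.mpr (by omega))
      simp only [Bool.and_eq_true, decide_eq_true_eq, beq_iff_eq] at hk
      obtain ⟨⟨hj, hp⟩, he⟩ := hk
      have hp' : (Data.par.getD (n - 6) (0, 0)).2 < 315 := by omega
      have he' : tgt ⟨_, hj⟩ ⟨_, hp'⟩ = n := by rw [tgt]; simp only; omega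
      obtain ⟨j', e1, e2⟩ := rel_conj (rel_root ⟨_, hj⟩) ⟨_, hp'⟩
      rw [conj_spec _ _ (by omega)] at e2
      have hji : j' = i := (invol_injective e2).symm.trans (Fin.ext (by simp only [he', hi]))
      obtain ⟨g, hg, r, e⟩ := ih _ (show (Data.par.getD (n - 6) (0, 0)).2 < n by omega) ⟨_, hp'⟩ rfl
      refine ⟨rootRefl ⟨_, hj⟩ * g, mul_mem (rootRefl_eq ⟨_, hj⟩ ▸ refl_mem_twoJ2 _) hg, r, ?_⟩
      rw [← hji, ← e1, ← e]; group

/-- Following a word of roots from the first line. -/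
def walk : List (Fin 6) → ℕ
  | [] => 0
  | j :: w => (actAt j (walk w)).1

/-- Words leading from the first root to each root. -/
def rootWord : Fin 6 → List (Fin 6) := ![[], [0, 1], [0, 2], [5, 3, 0, 5], [0, 4], [0, 5]]

theorem rootWord_ok : ((List.finRange 6).all fun j => walk (rootWord j) == (j : ℕ)) = true := by decide +kernel

theorem walk_lt : ∀ w : List (Fin 6), walk w < 315
  | [] => by simp [walk]
  | j :: w => (act_spec j ⟨walk w, walk_lt w⟩).1

theorem exists_conj_walk : ∀ (w : List (Fin 6)) (h : walk w < 315), ∃ g ∈ twoJ2,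
    g * refl (root 0) * g⁻¹ = refl ⟨walk w, h⟩
  | [], h => ⟨1, one_mem _, by simp [walk, root]⟩
  | j :: w, h => by
    have h' : walk w < 315 := walk_lt w
    obtain ⟨g, hg, e⟩ := exists_conj_walk w h'
    obtain ⟨j', e1, e2⟩ := rel_conj (rel_root j) ⟨walk w, h'⟩
    rw [conj_spec _ _ (show tgt j ⟨walk w, h'⟩ < 315 from h)] at e2
    refine ⟨rootRefl j * g, mul_mem (rootRefl_eq j ▸ refl_mem_twoJ2 _) hg, ?_⟩
    rw [show (⟨walk (j :: w), h⟩ : Ix) = j' from invol_injective e2, ← e1, ← e]; group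

theorem exists_conj (i k : Ix) : ∃ g ∈ twoJ2, g * refl i * g⁻¹ = refl k := by
  have h : ∀ i : Ix, ∃ g ∈ twoJ2, g * refl (root 0) * g⁻¹ = refl i := fun i => by
    obtain ⟨g, hg, r, e⟩ := exists_conj_root i
    have hw : walk (rootWord r) = (r : ℕ) := beq_iff_eq.mp ((List.all_eq_true.mp rootWord_ok) r (List.mem_finRange r))
    obtain ⟨g', hg', e'⟩ := exists_conj_walk (rootWord r) (by rw [hw]; exact (root r).isLt)
    refine ⟨g * g', mul_mem hg hg', ?_⟩
    rw [← e, show root r = (⟨walk (rootWord r), by rw [hw]; exact (root r).isLt⟩ : Ix) from Fin.ext hw.symm, ← e']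
    group
  obtain ⟨a, ha, ea⟩ := h i
  obtain ⟨b, hb, eb⟩ := h k
  exact ⟨b * a⁻¹, mul_mem hb (inv_mem ha), by rw [← ea, ← eb]; group⟩

end CfsgLib.Sporadic.Icosian
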