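import Cfsg.Agent.Lib.Sporadic.Icosian.Quat

/-!
# The icosian ring, its two ideals, and the lattice in coordinates
-/

set_option autoImplicit false

namespace CfsgLib.Sporadic.Icosian

open Quaternion Cfsg.Spor

namespace Q8

/-- An eighth of a rule: halving all coordinates. -/
def half (x : Q8) : Q8 := ⟨⟨x.r.a / 2, x.r.b / 2⟩, ⟨x.i.a / 2, x.i.b / 2⟩, ⟨x.j.a / 2, x.j.b / 2⟩, ⟨x.k.a / 2, x.k.b / 2⟩⟩

/-- The basis. -/
def basis : List Q8 :=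
  [⟨⟨1, 0⟩, ⟨0, 0⟩, ⟨0, 1⟩, ⟨1, 1⟩⟩, ⟨⟨0, 1⟩, ⟨0, 0⟩, ⟨1, 1⟩, ⟨1, 0⟩⟩,
   ⟨⟨0, 0⟩, ⟨1, 0⟩, ⟨1, 1⟩, ⟨0, 1⟩⟩, ⟨⟨0, 0⟩, ⟨0, 1⟩, ⟨1, 0⟩, ⟨1, 1⟩⟩,
   ⟨⟨0, 0⟩, ⟨0, 0⟩, ⟨2, 0⟩, ⟨0, 0⟩⟩, ⟨⟨0, 0⟩, ⟨0, 0⟩, ⟨0, 2⟩, ⟨0, 0⟩⟩,
   ⟨⟨0, 0⟩, ⟨0, 0⟩, ⟨0, 0⟩, ⟨2, 0⟩⟩, ⟨⟨0, 0⟩, ⟨0, 0⟩, ⟨0, 0⟩, ⟨0, 2⟩⟩]

/-- The image of the integral coordinates. -/
noncomputable def span : AddSubgroup ℍ[ℝ] where
  carrier := {h | ∃ x, inI x = true ∧ toH x = h}
  zero_mem' := ⟨zero, by decide, toH_zero⟩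
  add_mem' := by
    rintro _ _ ⟨x, hx, rfl⟩ ⟨y, hy, rfl⟩; exact ⟨_, inI_add hx hy, toH_add x y⟩
  neg_mem' := by rintro _ ⟨x, hx, rfl⟩; exact ⟨_, inI_neg hx, toH_neg x⟩

theorem toH_mem_span {x : Q8} : toH x ∈ span ↔ inI x = true :=
  ⟨fun ⟨y, hy, e⟩ => toH_injective e ▸ hy, fun h => ⟨x, h, rfl⟩⟩

theorem expand {x : Q8} (hx : inI x = true) :
    x = (((smul x.r.a ⟨⟨1, 0⟩, ⟨0, 0⟩, ⟨0, 1⟩, ⟨1, 1⟩⟩).add (smul x.r.b ⟨⟨0, 1⟩, ⟨0, 0⟩, ⟨1, 1⟩, ⟨1, 0⟩⟩)).add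
      ((smul x.i.a ⟨⟨0, 0⟩, ⟨1, 0⟩, ⟨1, 1⟩, ⟨0, 1⟩⟩).add (smul x.i.b ⟨⟨0, 0⟩, ⟨0, 1⟩, ⟨1, 0⟩, ⟨1, 1⟩⟩))).add
      (((smul ((x.j.a - (x.r.b + x.i.a + x.i.b)) / 2) ⟨⟨0, 0⟩, ⟨0, 0⟩, ⟨2, 0⟩, ⟨0, 0⟩⟩).add
        (smul ((x.j.b - (x.r.a + x.r.b + x.i.a)) / 2) ⟨⟨0, 0⟩, ⟨0, 0⟩, ⟨0, 2⟩, ⟨0, 0⟩⟩)).add
      ((smul ((x.k.a - (x.r.a + x.r.b + x.i.b)) / 2) ⟨⟨0, 0⟩, ⟨0, 0⟩, ⟨0, 0⟩, ⟨2, 0⟩⟩).add
        (smul ((x.k.b - (x.r.a + x.i.a + x.i.b)) / 2) ⟨⟨0, 0⟩, ⟨0, 0⟩, ⟨0, 0⟩, ⟨0, 2⟩⟩))) := by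
  rw [inI_iff] at hx
  obtain ⟨⟨a, b⟩, ⟨c, d⟩, ⟨e, f⟩, ⟨g, h⟩⟩ := x
  simp only [Q8.mk.injEq, P2.mk.injEq, add, smul, P2.add, P2.smul] at *
  omega

theorem span_le : span ≤ AddSubgroup.closure {h | ∃ b ∈ basis, toH b = h} := by
  rintro _ ⟨x, hx, rfl⟩
  have hb : ∀ (n : ℤ) (b : Q8), b ∈ basis →
      toH (smul n b) ∈ AddSubgroup.closure {h : ℍ[ℝ] | ∃ b ∈ basis, toH b = h} := fun n b hb => by
    rw [toH_smul, Int.cast_smul_eq_zsmul]
    refine AddSubgroup.zsmul_mem _ ?_ n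
    apply AddSubgroup.subset_closure
    exact ⟨b, hb, rfl⟩
  rw [expand hx]
  simp only [toH_add]
  repeat' apply AddSubgroup.add_mem
  all_goals exact hb _ _ (by simp [basis])

theorem basis_products : (basis.all fun x => basis.all fun y =>
    (raw x y == smul 2 (half (raw x y))) && inI (half (raw x y))) = true := by decide +kernel

theorem basis_inI : (basis.all inI) = true := by decide +kernel

theorem mul_mem_span {p q : ℍ[ℝ]} (hp : p ∈ span) (hq : q ∈ span) : p * q ∈ span := by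
  have h0 : ∀ x ∈ basis, ∀ y ∈ basis, toH x * toH y ∈ span := by
    intro x hx y hy
    have := (List.all_eq_true.mp ((List.all_eq_true.mp basis_products) x hx)) y hy
    simp only [Bool.and_eq_true, beq_iff_eq] at this
    exact ⟨_, this.2, (mul_of_raw this.1).symm⟩
  refine AddSubgroup.closure_induction (p := fun a _ => a * q ∈ span) ?_ ?_ ?_ ?_ (span_le hp)
  · rintro _ ⟨x, hx, rfl⟩
    refine AddSubgroup.closure_induction (p := fun b _ => toH x * b ∈ span) ?_ ?_ ?_ ?_ (span_le hq)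
    · rintro _ ⟨y, hy, rfl⟩; exact h0 x hx y hy
    · rw [mul_zero]; exact zero_mem _
    · intro a b _ _ ha hb; rw [mul_add]; exact add_mem ha hb
    · intro a _ ha; rw [mul_neg]; exact neg_mem ha
  · rw [zero_mul]; exact zero_mem _
  · intro a b _ _ ha hb; rw [add_mul]; exact add_mem ha hb
  · intro a _ ha; rw [neg_mul]; exact neg_mem ha

theorem qI_eq : qI = toH ⟨⟨0, 0⟩, ⟨2, 0⟩, ⟨0, 0⟩, ⟨0, 0⟩⟩ := by
  ext <;> simp [qI, P2.toR]

theorem gen_eq : (⟨1 / 2, sig / 2, 0, tau / 2⟩ : ℍ[ℝ]) = toH ⟨⟨1, 0⟩, ⟨1, -1⟩, ⟨0, 0⟩, ⟨0, 1⟩⟩ := by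
  ext <;> simp [P2.toR, sig, tau] <;> ring

/-- The image as a subring. -/
noncomputable def spanRing : Subring ℍ[ℝ] :=
  { span with
    mul_mem' := mul_mem_span
    one_mem' := ⟨one, by decide, toH_one⟩ }

/-- The product with evenness assumed. -/
def qmul (x y : Q8) : Q8 := half (raw x y)

theorem raw_even {x y : Q8} (hx : inI x = true) (hy : inI y = true) :
    raw x y = smul 2 (qmul x y) ∧ inI (qmul x y) = true ∧ toH (qmul x y) = toH x * toH y := by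
  obtain ⟨z, hz, e⟩ := mul_mem_span (toH_mem_span.mpr hx) (toH_mem_span.mpr hy)
  have h := raw_of_mul e.symm
  have hq : qmul x y = z := by
    rw [qmul, h]
    obtain ⟨⟨a, b⟩, ⟨c, d⟩, ⟨e', f⟩, ⟨g, k⟩⟩ := z
    simp [half, smul, P2.smul]
  rw [hq]
  exact ⟨h, hz, e⟩

/-- Evaluating a word in the two generators. -/
def word : List Bool → Q8
  | [] => one
  | false :: w => qmul ⟨⟨0, 0⟩, ⟨2, 0⟩, ⟨0, 0⟩, ⟨0, 0⟩⟩ (word w)
  | true :: w => qmul ⟨⟨1, 0⟩, ⟨1, -1⟩, ⟨0, 0⟩, ⟨0, 1⟩⟩ (word w)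

theorem word_spec : ∀ w : List Bool, inI (word w) = true ∧ toH (word w) ∈ icosians
  | [] => ⟨by decide, by rw [word, toH_one]; exact one_mem _⟩
  | false :: w => by
      obtain ⟨h1, h2⟩ := word_spec w
      obtain ⟨-, h3, h4⟩ := raw_even (x := ⟨⟨0, 0⟩, ⟨2, 0⟩, ⟨0, 0⟩, ⟨0, 0⟩⟩) (by decide) h1
      exact ⟨h3, by rw [word, h4, ← qI_eq]; exact mul_mem (Subring.subset_closure (by simp)) h2⟩
  | true :: w => by
      obtain ⟨h1, h2⟩ := word_spec w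
      obtain ⟨-, h3, h4⟩ := raw_even (x := ⟨⟨1, 0⟩, ⟨1, -1⟩, ⟨0, 0⟩, ⟨0, 1⟩⟩) (by decide) h1
      exact ⟨h3, by rw [word, h4, ← gen_eq]; exact mul_mem (Subring.subset_closure (Set.mem_insert_of_mem _ rfl)) h2⟩

/-- Words whose sums give the basis. -/
def basisWords : List (List (List Bool)) :=
  [[[true], [true, true, false, true]],
   [[true, false], [false, false, true, false, true, true, false, true, true]],
   [[true, false], [true, false, true, true, false]],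
   [[false, true, false], [false, false, false, true, false, true, false, true, true, false]],
   [[false, true, false, true, true, false, true, false, true, true, false, true]],
   [[true, false], [false, false, false, true]],
   [[false, false, true, false, true, true, false, true, false, true, true, false, true]],
   [[true], [false, true, false]]]

theorem basisWords_ok :
    basisWords.map (fun l => l.foldr (fun w acc => add (word w) acc) zero) = basis := by decide +kernel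

theorem sum_mem : ∀ l : List (List Bool),
    toH (l.foldr (fun w acc => add (word w) acc) zero) ∈ icosians
  | [] => by rw [List.foldr_nil, toH_zero]; exact zero_mem _
  | w :: l => by rw [List.foldr_cons, toH_add]; exact add_mem (word_spec w).2 (sum_mem l)

/-- The icosians are exactly the quaternions with the four parities. -/
theorem mem_icosians {h : ℍ[ℝ]} : h ∈ icosians ↔ ∃ x, inI x = true ∧ toH x = h := by
  constructor
  · intro hh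
    refine (Subring.closure_le (t := spanRing)).mpr ?_ hh
    rintro g (rfl | rfl)
    · exact ⟨_, by decide, qI_eq.symm⟩
    · exact ⟨_, by decide, gen_eq.symm⟩
  · intro hh
    refine (AddSubgroup.closure_le (icosians.toAddSubgroup)).mpr ?_ (span_le hh)
    rintro _ ⟨b, hb, rfl⟩
    rw [← basisWords_ok] at hb
    obtain ⟨l, -, rfl⟩ := List.mem_map.mp hb
    exact sum_mem l

theorem toH_mem {x : Q8} : toH x ∈ icosians ↔ inI x = true :=
  ⟨fun h => toH_mem_span.mp (mem_icosians.mp h), fun h => mem_icosians.mpr ⟨x, h, rfl⟩⟩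

/-- The element h. -/
def hq : Q8 := ⟨⟨1, -2⟩, ⟨1, 0⟩, ⟨1, 0⟩, ⟨1, 0⟩⟩

theorem toH_hq : toH hq = icoH := by
  ext <;> simp [hq, icoH, P2.toR, tau] <;> ring

theorem toH_conj_hq : toH (conj hq) = star icoH := by rw [toH_conj, toH_hq]

theorem hq_mul_conj : toH (conj hq) * toH hq = toH (smul 2 one) ∧ toH hq * toH (conj hq) = toH (smul 2 one) :=
  ⟨mul_of_raw (by decide), mul_of_raw (by decide)⟩

theorem hq_inI : inI hq = true ∧ inI (conj hq) = true := by decide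

/-- The test for the ideal generated by `h` on the left. -/
def inIh (g x : Q8) : Bool :=
  (raw x g == smul 4 (half (half (raw x g)))) && inI (half (half (raw x g)))

theorem half_half (a : Q8) : half (half (smul 4 a)) = a := by
  obtain ⟨⟨a, b⟩, ⟨c, d⟩, ⟨e, f⟩, ⟨g, k⟩⟩ := a
  simp only [half, smul, P2.smul, Q8.mk.injEq, P2.mk.injEq]
  omega

theorem inIh_iff {g g' x : Q8} (hg : toH g * toH g' = toH (smul 2 one)) (hg' : toH g' * toH g = toH (smul 2 one)) :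
    inIh g x = true ↔ ∃ a, inI a = true ∧ toH a * toH g' = toH x := by
  have two : toH (smul 2 one) = (2 : ℝ) • (1 : ℍ[ℝ]) := by rw [toH_smul, toH_one]; norm_num
  constructor
  · intro h
    simp only [inIh, Bool.and_eq_true, beq_iff_eq] at h
    refine ⟨_, h.2, ?_⟩
    have h1 := congrArg toH h.1
    rw [toH_raw, toH_smul] at h1
    have h2 : toH x * toH g = (2 : ℝ) • toH (half (half (raw x g))) := by
      refine smul_right_injective ℍ[ℝ] (by norm_num : (2 : ℝ) ≠ 0) ?_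
      simp only [h1, smul_smul]; norm_num
    refine smul_right_injective ℍ[ℝ] (by norm_num : (2 : ℝ) ≠ 0) ?_
    simp only [← smul_mul_assoc, ← h2]
    rw [mul_assoc, hg, two, mul_smul_comm, mul_one]
  · rintro ⟨a, ha, h⟩
    have h1 : raw x g = smul 4 a := toH_injective (by
      rw [toH_raw, ← h, mul_assoc, hg', two, mul_smul_comm, mul_one, smul_smul, toH_smul]
      norm_num)
    simp [inIh, h1, half_half, ha]

theorem mem_left {x : Q8} : toH x ∈ leftIdeal icoH ↔ inIh (conj hq) x = true := by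
  rw [inIh_iff hq_mul_conj.1 hq_mul_conj.2, toH_hq]
  constructor
  · rintro ⟨a, ha, e⟩
    obtain ⟨b, hb, rfl⟩ := mem_icosians.mp ha
    exact ⟨b, hb, e.symm⟩
  · rintro ⟨a, ha, e⟩; exact ⟨_, toH_mem.mpr ha, e.symm⟩

theorem mem_left' {x : Q8} : toH x ∈ leftIdeal (star icoH) ↔ inIh hq x = true := by
  rw [inIh_iff hq_mul_conj.2 hq_mul_conj.1, toH_conj_hq]
  constructor
  · rintro ⟨a, ha, e⟩
    obtain ⟨b, hb, rfl⟩ := mem_icosians.mp ha
    exact ⟨b, hb, e.symm⟩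
  · rintro ⟨a, ha, e⟩; exact ⟨_, toH_mem.mpr ha, e.symm⟩

end Q8

end CfsgLib.Sporadic.Icosian
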