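import Cfsg.Agent.Lib.Sporadic.Icosian.CentData
import Cfsg.Agent.Lib.Sporadic.Icosian.Group
import Cfsg.Agent.Lib.Sporadic.ExtraspecialCrit

/-!
# The centraliser of a reflection in the Hall-Janko group
-/

set_option autoImplicit false
set_option maxRecDepth 100000

namespace CfsgLib.Sporadic.Icosian.Centralizer

open CfsgLib.SmallGroups CfsgLib.SmallGroups.PermChain
open CfsgLib.Sporadic.Icosian (J invol Ix)

/-- The chain adapted to the five points. -/
abbrev chainA : List Level :=
  [CentData.aLevel1, CentData.aLevel2, CentData.aLevel3, CentData.aLevel4, CentData.aLevel5, CentData.aLevel6]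

/-- The chain adapted to the hundred points. -/
abbrev chainB : List Level := [CentData.bLevel1, CentData.bLevel2, CentData.bLevel3, CentData.bLevel4]

theorem checkA : check 105 chainA = true := by decide +kernel
theorem checkB : check 105 chainB = true := by decide +kernel

theorem lengths : ((chainA.map fun l => l.orb.length).prod = 1920 ∧ (chainB.map fun l => l.orb.length).prod = 1920) ∧
    ([CentData.aLevel4, CentData.aLevel5, CentData.aLevel6].map fun l => l.orb.length).prod = 32 ∧
    (CentData.aLevel1.b = 100 ∧ CentData.aLevel2.b = 101 ∧ CentData.aLevel3.b = 102) ∧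
    (chainB.map fun l => l.b) = [0, 1, 2, 3] := by decide +kernel

/-- The generated group. -/
abbrev Γ : Subgroup (Equiv.Perm (Fin 105)) := grp 105 chainA

theorem card_Γ : Nat.card Γ = 1920 := (card_grp checkA).trans lengths.1.1

theorem gensB_ok : ((gensOf chainB).all fun e => ok 105 e && sift 105 chainA e.1) = true := by decide +kernel

theorem grpB_eq : grp 105 chainB = Γ := by
  refine Subgroup.eq_of_le_of_card_ge ((Subgroup.closure_le _).mpr ?_) ?_
  · rintro _ ⟨e, he, rfl⟩
    have h := (List.all_eq_true.mp gensB_ok) e he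
    simp only [Bool.and_eq_true] at h
    exact mem_grp_of_sift _ _ _ checkA (rep_fst h.1) h.2
  · rw [card_Γ, (card_grp checkB).trans lengths.1.2]

theorem one_of_four {σ : Equiv.Perm (Fin 105)} (hσ : σ ∈ Γ)
    (h : ∀ p : Fin 105, (p : ℕ) ∈ [0, 1, 2, 3] → σ p = p) : σ = 1 := by
  rw [← grpB_eq] at hσ
  have hb : ∀ l ∈ chainB, l.b ∈ [0, 1, 2, 3] := fun l hl => lengths.2.2.2 ▸ List.mem_map_of_mem hl
  have hlt : ∀ l ∈ chainB, l.b < 105 := fun l hl => by
    have := hb l hl
    simp only [List.mem_cons, List.not_mem_nil, or_false] at this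
    omega
  have c1 := checkB
  have h1 := mem_rest_of_fix c1 hσ (hlt _ (by simp)) (h _ (hb _ (by simp)))
  rw [check, Bool.and_eq_true] at c1
  have h2 := mem_rest_of_fix c1.2 h1 (hlt _ (by simp)) (h _ (hb _ (by simp)))
  have c2 := c1.2
  rw [check, Bool.and_eq_true] at c2
  have h3 := mem_rest_of_fix c2.2 h2 (hlt _ (by simp)) (h _ (hb _ (by simp)))
  have c3 := c2.2
  rw [check, Bool.and_eq_true] at c3
  have h4 := mem_rest_of_fix c3.2 h3 (hlt _ (by simp)) (h _ (hb _ (by simp)))
  simpa [grp, gensOf] using h4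

/-- The block sum of two permutations. -/
def block : Equiv.Perm (Fin 100) × Equiv.Perm (Fin 5) →* Equiv.Perm (Fin 105) :=
  (Equiv.permCongrHom (finSumFinEquiv (m := 100) (n := 5))).toMonoidHom.comp (Equiv.Perm.sumCongrHom _ _)

theorem block_left (c : Equiv.Perm (Fin 100) × Equiv.Perm (Fin 5)) (i : Fin 100) :
    block c (Fin.castAdd 5 i) = Fin.castAdd 5 (c.1 i) := by
  show finSumFinEquiv (Sum.map (⇑c.1) (⇑c.2) (finSumFinEquiv.symm (Fin.castAdd 5 i))) = _
  rw [show finSumFinEquiv.symm (Fin.castAdd 5 i) = Sum.inl i from (Equiv.symm_apply_eq _).mpr rfl]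
  rfl

theorem block_right (c : Equiv.Perm (Fin 100) × Equiv.Perm (Fin 5)) (i : Fin 5) :
    block c (Fin.natAdd 100 i) = Fin.natAdd 100 (c.2 i) := by
  show finSumFinEquiv (Sum.map (⇑c.1) (⇑c.2) (finSumFinEquiv.symm (Fin.natAdd 100 i))) = _
  rw [show finSumFinEquiv.symm (Fin.natAdd 100 i) = Sum.inr i from (Equiv.symm_apply_eq _).mpr rfl]
  rfl

theorem block_injective : Function.Injective block := fun a b e => Prod.ext
  (Equiv.ext fun i => Fin.castAdd_injective 100 5 (by rw [← block_left, ← block_left, e]))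
  (Equiv.ext fun i => Fin.natAdd_injective 5 100 (by rw [← block_right, ← block_right, e]))

/-- The test of one generator. -/
def genOK (eb : (ℕ × ℕ) × (ℕ × ℕ)) : Bool :=
  ok 105 eb.1 && ok 100 eb.1 && ok 5 eb.2 &&
    ((List.range 5).all fun i => get eb.1.1 (100 + i) == 100 + get eb.2.1 i) &&
    sift 100 (HallJankoData.level1 :: HallJanko.chain₁) eb.1.1 &&
    same 100 (comp 100 eb.1.1 (involN 0).1) (comp 100 (involN 0).1 eb.1.1) &&
    decide (Equiv.Perm.sign (toPerm 5 eb.2) = 1)

theorem gens_ok : ((CentData.aGens1.zip CentData.fiveParts).all genOK) = true ∧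
    CentData.aGens1.length = CentData.fiveParts.length := by decide +kernel

theorem gen_block {e : ℕ × ℕ} (he : e ∈ gensOf chainA) : ∃ b : ℕ × ℕ,
    toPerm 100 e ∈ J ∧ Commute (toPerm 100 e) (invol 0) ∧ Equiv.Perm.sign (toPerm 5 b) = 1 ∧
      block (toPerm 100 e, toPerm 5 b) = toPerm 105 e := by
  obtain ⟨i, hi, rfl⟩ := List.mem_iff_getElem.mp (show e ∈ CentData.aGens1 from he)
  have hi' : i < CentData.fiveParts.length := gens_ok.2 ▸ hi
  have h := (List.all_eq_true.mp gens_ok.1) (CentData.aGens1[i], CentData.fiveParts[i])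
    (List.mem_iff_getElem.mpr ⟨i, by simpa using ⟨hi, hi'⟩, List.getElem_zip⟩)
  simp only [genOK, Bool.and_eq_true, decide_eq_true_eq, List.all_eq_true, List.mem_range, beq_iff_eq] at h
  obtain ⟨⟨⟨⟨⟨⟨h105, h100⟩, h5⟩, hr⟩, hs⟩, hc⟩, hsg⟩ := h
  refine ⟨_, mem_grp_of_sift _ _ _ HallJanko.check_chain (rep_fst h100) hs,
    perm_eq hc (rep_comp (rep_fst h100) (rep_fst (invol_okAt 0))) (rep_comp (rep_fst (invol_okAt 0)) (rep_fst h100)),
    hsg, ?_⟩
  refine Equiv.ext fun x => Fin.ext ?_
  refine Fin.addCases (m := 100) (n := 5) (fun x => ?_) (fun x => ?_) x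
  · rw [block_left, Fin.val_castAdd]
    exact (rep_fst h100 x).symm.trans (rep_fst h105 (Fin.castAdd 5 x))
  · rw [block_right, Fin.val_natAdd]
    refine ((congrArg (100 + ·) (rep_fst h5 x)).symm.trans (hr x x.isLt).symm).trans ?_
    exact rep_fst h105 (Fin.natAdd 100 x)

/-- The pairs. -/
abbrev pairs : Subgroup (Equiv.Perm (Fin 100) × Equiv.Perm (Fin 5)) := Γ.comap block

theorem Γ_le : Γ ≤ block.range := (Subgroup.closure_le _).mpr (by
  rintro _ ⟨e, he, rfl⟩
  obtain ⟨b, -, -, -, h⟩ := gen_block he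
  exact ⟨_, h⟩)

theorem card_pairs : Nat.card pairs = 1920 := by
  rw [← card_Γ]
  refine Nat.card_congr (Equiv.ofBijective (fun p => (⟨block p.1, p.2⟩ : Γ)) ⟨fun a b e => ?_, fun g => ?_⟩)
  · exact Subtype.ext (block_injective (congrArg Subtype.val e))
  · obtain ⟨p, hp⟩ := Γ_le g.2
    exact ⟨⟨p, show block p ∈ Γ by rw [hp]; exact g.2⟩, Subtype.ext hp⟩

theorem pairs_facts {p : Equiv.Perm (Fin 100) × Equiv.Perm (Fin 5)} (hp : p ∈ pairs) :
    p.1 ∈ J ∧ Commute p.1 (invol 0) ∧ Equiv.Perm.sign p.2 = 1 := by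
  let K : Subgroup (Equiv.Perm (Fin 100) × Equiv.Perm (Fin 5)) :=
    (J ⊓ Subgroup.centralizer {invol 0}).prod (alternatingGroup (Fin 5))
  have hle : Γ ≤ K.map block := (Subgroup.closure_le _).mpr (by
    rintro _ ⟨e, he, rfl⟩
    obtain ⟨b, h1, h2, h3, h4⟩ := gen_block he
    exact ⟨_, ⟨⟨h1, Subgroup.mem_centralizer_singleton_iff.mpr h2.eq⟩, Equiv.Perm.mem_alternatingGroup.mpr h3⟩, h4⟩)
  obtain ⟨q, ⟨⟨q1, q2⟩, q3⟩, e⟩ := hle hp
  rw [← block_injective e]
  exact ⟨q1, Subgroup.mem_centralizer_singleton_iff.mp q2, Equiv.Perm.mem_alternatingGroup.mp q3⟩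

/-- The centraliser inside the group of degree one hundred. -/
abbrev Cen : Subgroup J := Subgroup.centralizer {(⟨invol 0, J_eq_closure ▸ Subgroup.subset_closure ⟨0, rfl⟩⟩ : J)}

/-- The projection to the centraliser. -/
def toCen : pairs →* Cen where
  toFun p := ⟨⟨p.1.1, (pairs_facts p.2).1⟩,
    Subgroup.mem_centralizer_singleton_iff.mpr (Subtype.ext (pairs_facts p.2).2.1.eq)⟩
  map_one' := rfl
  map_mul' _ _ := rfl

theorem toCen_injective : Function.Injective toCen := by
  rw [← MonoidHom.ker_eq_bot_iff, Subgroup.eq_bot_iff_forall]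
  intro p hp
  have h1 : p.1.1 = 1 := congrArg (fun x : Cen => ((x : J) : Equiv.Perm (Fin 100))) hp
  have h : block p.1 = 1 := one_of_four p.2 fun x hx => by
    have hx' : (x : ℕ) < 100 := by
      simp only [List.mem_cons, List.not_mem_nil, or_false] at hx; omega
    rw [show x = Fin.castAdd 5 ⟨x, hx'⟩ from Fin.ext rfl, block_left, h1]
    rfl
  exact Subtype.ext (block_injective (h.trans (map_one block).symm))

theorem class_big : 315 ≤ (Cen).index := by
  let t : J := ⟨invol 0, J_eq_closure ▸ Subgroup.subset_closure ⟨0, rfl⟩⟩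
  let f : J ⧸ Cen → Equiv.Perm (Fin 100) := fun q =>
    Quotient.liftOn' q (fun g => ((g * t * g⁻¹ : J) : Equiv.Perm (Fin 100))) fun a b h => by
      rw [QuotientGroup.leftRel_apply, Subgroup.mem_centralizer_singleton_iff] at h
      refine congrArg Subtype.val ?_
      calc a * t * a⁻¹ = a * (t * (a⁻¹ * b)) * b⁻¹ := by group
        _ = a * ((a⁻¹ * b) * t) * b⁻¹ := by rw [h]
        _ = b * t * b⁻¹ := by group
  have hsub : Set.range invol ⊆ Set.range f := by
    rintro _ ⟨i, rfl⟩
    obtain ⟨g, hg, e⟩ := exists_conj 0 i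
    refine ⟨QuotientGroup.mk (toJ ⟨g, hg⟩), ?_⟩
    have e' : (⟨refl i, refl_mem_twoJ2 i⟩ : Cfsg.Spor.twoJ2) =
        ⟨g, hg⟩ * ⟨refl 0, refl_mem_twoJ2 0⟩ * ⟨g, hg⟩⁻¹ := Subtype.ext e.symm
    have h2 := congrArg (fun x => ((toJ x : J) : Equiv.Perm (Fin 100))) e'
    simp only [map_mul, map_inv, toJ_refl, Subgroup.coe_mul, InvMemClass.coe_inv] at h2
    exact h2.symm ▸ rfl
  have h1 := Set.ncard_le_ncard hsub (Set.toFinite _)
  rw [← Set.image_univ, Set.ncard_image_of_injective _ invol_injective, Set.ncard_univ, Nat.card_eq_fintype_card,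
    Fintype.card_fin] at h1
  refine h1.trans ?_
  rw [← Set.image_univ]
  exact (Set.ncard_image_le Set.finite_univ).trans_eq (Set.ncard_univ _)

theorem card_Cen : Nat.card Cen = 1920 := by
  refine le_antisymm ?_ (card_pairs ▸ Nat.card_le_card_of_injective toCen toCen_injective)
  have h := (Cen).card_mul_index
  rw [card_J] at h
  nlinarith [class_big]

theorem toCen_bijective : Function.Bijective toCen :=
  toCen_injective.bijective_of_nat_card_le (by rw [card_Cen, card_pairs])

/-- The action on five points. -/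
def toAlt : pairs →* alternatingGroup (Fin 5) where
  toFun p := ⟨p.1.2, (pairs_facts p.2).2.2⟩
  map_one' := rfl
  map_mul' _ _ := rfl

/-- The kernel part, as pairs. -/
def normalOK (e : ℕ × ℕ) : Bool :=
  ok 105 e && sift 105 chainA e.1 && ((List.range 5).all fun i => get e.1 (100 + i) == 100 + i)

/-- Images of four base points. -/
def sig4 (p : ℕ) : List ℕ := [0, 1, 2, 3].map (get p)

/-- Images of four base points under a product. -/
def sig4Mul (p q : ℕ) : List ℕ := [0, 1, 2, 3].map fun x => get p (get q x)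

theorem normal_ok : (CentData.normalPart.all normalOK) = true ∧
    ((CentData.normalPart.map fun e => sig4 e.1).Nodup) ∧ CentData.normalPart.length = 32 := by decide +kernel

/-- The special relations inside the kernel. -/
def relOK : Bool :=
  match CentData.normalPart[0]?, CentData.normalPart[12]? with
  | some o, some z =>
    (sig4 o.1 == [0, 1, 2, 3]) && !(sig4 z.1 == [0, 1, 2, 3]) &&
    CentData.normalPart.all fun a =>
      ((sig4Mul a.1 a.1 == sig4 o.1) || (sig4Mul a.1 a.1 == sig4 z.1)) &&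
      (sig4Mul a.1 z.1 == sig4Mul z.1 a.1) &&
      ((sig4 a.1 == sig4 o.1) || (sig4 a.1 == sig4 z.1) ||
        CentData.normalPart.any fun b => !(sig4Mul a.1 b.1 == sig4Mul b.1 a.1)) &&
      CentData.normalPart.all fun b => (sig4Mul a.1 b.1 == sig4Mul b.1 a.1) ||
        (([0, 1, 2, 3].map fun x => get a.1 (get b.1 x)) == [0, 1, 2, 3].map fun x => get z.1 (get b.1 (get a.1 x)))
  | _, _ => false

theorem rel_ok : relOK = true := by decide +kernel

/-- The kernel on five points. -/
abbrev Ker : Subgroup pairs := toAlt.ker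

theorem card_Ker_le : Nat.card Ker ≤ 32 := by
  have hcard := (card_grp (L := [CentData.aLevel4, CentData.aLevel5, CentData.aLevel6]) (n := 105) (by
    have c := checkA
    rw [check, Bool.and_eq_true] at c; have c' := c.2
    rw [check, Bool.and_eq_true] at c'; have c'' := c'.2
    rw [check, Bool.and_eq_true] at c''; exact c''.2)).trans lengths.2.1
  rw [← hcard]
  refine Nat.card_le_card_of_injective (fun p => (⟨block p.1.1, ?_⟩ : grp 105 [CentData.aLevel4, CentData.aLevel5, CentData.aLevel6]))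
    (fun a b e => Subtype.ext (Subtype.ext (block_injective (congrArg Subtype.val e))))
  have h2 : p.1.1.2 = 1 := congrArg Subtype.val (MonoidHom.mem_ker.mp p.2)
  have hfix : ∀ (x : Fin 105), 100 ≤ (x : ℕ) → block p.1.1 x = x := fun x hx => by
    rw [show x = Fin.natAdd 100 (⟨(x : ℕ) - 100, by omega⟩ : Fin 5) from Fin.ext (by simp; omega), block_right, h2]
    rfl
  obtain ⟨e1, e2, e3⟩ := lengths.2.2.1
  have c := checkA
  have h := mem_rest_of_fix c p.1.2 (by omega) (hfix _ (by simp [e1]))
  rw [check, Bool.and_eq_true] at c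
  have h' := mem_rest_of_fix c.2 h (by omega) (hfix _ (by simp [e2]))
  have c' := c.2
  rw [check, Bool.and_eq_true] at c'
  exact mem_rest_of_fix c'.2 h' (by omega) (hfix _ (by simp [e3]))

theorem card_split : Nat.card Ker = 32 ∧ Function.Surjective toAlt := by
  have h := Subgroup.card_eq_card_quotient_mul_card_subgroup Ker
  rw [card_pairs, Nat.card_congr (QuotientGroup.quotientKerEquivRange toAlt).toEquiv] at h
  have hr : Nat.card toAlt.range ≤ 60 := by
    refine (Subgroup.card_le_card_group _).trans_eq ?_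
    rw [nat_card_alternatingGroup, Nat.card_fin]; rfl
  have hk := card_Ker_le
  have k32 : Nat.card Ker = 32 := by nlinarith
  refine ⟨k32, MonoidHom.range_eq_top.mp (Subgroup.eq_top_of_card_eq _ ?_)⟩
  rw [nat_card_alternatingGroup, Nat.card_fin]
  rw [k32] at h
  show Nat.card toAlt.range = 60
  omega

theorem sig4_of_rep {p : ℕ} {σ : Equiv.Perm (Fin 105)} (h : Rep p σ) :
    sig4 p = [(σ 0 : ℕ), σ 1, σ 2, σ 3] := by
  simp only [sig4, List.map_cons, List.map_nil, ← h _]
  rfl

theorem eq_of_sig {g g' : Equiv.Perm (Fin 105)} (hg : g ∈ Γ) (hg' : g' ∈ Γ)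
    (h : [(g 0 : ℕ), g 1, g 2, g 3] = [(g' 0 : ℕ), g' 1, g' 2, g' 3]) : g = g' := by
  simp only [List.cons.injEq, and_true, Fin.val_inj] at h
  obtain ⟨a, b, c, d⟩ := h
  refine (inv_mul_eq_one.mp (one_of_four (mul_mem (inv_mem hg') hg) fun x hx => ?_)).symm
  rw [Equiv.Perm.mul_apply, Equiv.Perm.inv_eq_iff_eq]
  simp only [List.mem_cons, List.not_mem_nil, or_false] at hx
  rcases hx with hx | hx | hx | hx
  · rw [show x = 0 from Fin.ext hx, a]
  · rw [show x = 1 from Fin.ext hx, b]
  · rw [show x = 2 from Fin.ext hx, c]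
  · rw [show x = 3 from Fin.ext hx, d]

theorem mul_sig {p q : ℕ} {σ τ : Equiv.Perm (Fin 105)} (hp : Rep p σ) (hq : Rep q τ) :
    sig4Mul p q = [((σ * τ) 0 : ℕ), (σ * τ) 1, (σ * τ) 2, (σ * τ) 3] := by
  simp only [sig4Mul, List.map_cons, List.map_nil, Equiv.Perm.mul_apply, ← hp _, ← hq _]
  rfl

theorem ker_listed (p : Ker) : ∃ e ∈ CentData.normalPart, ok 105 e = true ∧ toPerm 105 e = block p.1.1 := by
  obtain ⟨hall, hnd, hlen⟩ := normal_ok
  rw [List.all_eq_true] at hall
  simp only [normalOK, Bool.and_eq_true, List.all_eq_true, List.mem_range, beq_iff_eq] at hall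
  have hmem : ∀ i : Fin CentData.normalPart.length, ∃ q : Ker, block q.1.1 = toPerm 105 CentData.normalPart[i] := fun i => by
    obtain ⟨⟨h1, h2⟩, h3⟩ := hall _ (List.getElem_mem i.isLt)
    have hΓ := mem_grp_of_sift _ _ _ checkA (rep_fst h1) h2
    obtain ⟨⟨c, b⟩, hq⟩ := Γ_le hΓ
    have hb : b = 1 := Equiv.ext fun x => Fin.natAdd_injective 5 100 (Fin.ext (by
      have := rep_fst h1 (Fin.natAdd 100 x)
      rw [← hq, block_right] at this
      simp only [Fin.val_natAdd] at this
      rw [h3 x x.isLt] at this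
      simp only [Equiv.Perm.one_apply, Fin.val_natAdd]
      exact this.symm))
    exact ⟨⟨⟨(c, b), show block (c, b) ∈ Γ by rw [hq]; exact hΓ⟩, MonoidHom.mem_ker.mpr (Subtype.ext hb)⟩, hq⟩
  choose f hf using hmem
  simp only [Fin.getElem_fin] at hf
  have finj : Function.Injective f := fun i j e => by
    refine Fin.ext ((List.Nodup.getElem_inj_iff hnd (i := (i : ℕ)) (j := (j : ℕ)) (hi := by simp) (hj := by simp)).mp ?_)
    simp only [List.getElem_map]
    rw [sig4_of_rep (rep_fst (hall _ (List.getElem_mem i.isLt)).1.1),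
      sig4_of_rep (rep_fst (hall _ (List.getElem_mem j.isLt)).1.1), ← hf i, ← hf j, e]
  obtain ⟨i, hi⟩ := (finj.bijective_of_nat_card_le (by
    rw [card_split.1, Nat.card_eq_fintype_card, Fintype.card_fin, hlen])).2 p
  exact ⟨_, List.getElem_mem i.isLt, (hall _ (List.getElem_mem i.isLt)).1.1, by rw [← hf i, hi]⟩

theorem ker_eq {p q : Ker} (h : block p.1.1 = block q.1.1) : p = q :=
  Subtype.ext (Subtype.ext (block_injective h))

theorem isExtraspecial_Ker : Cfsg.IsExtraspecial 2 Ker := by
  have hr := rel_ok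
  rw [relOK] at hr
  split at hr
  swap; · simp at hr
  rename_i o z ho hz
  simp only [Bool.and_eq_true, beq_iff_eq, Bool.not_eq_true', beq_eq_false_iff_ne, List.all_eq_true, Bool.or_eq_true,
    List.any_eq_true] at hr
  obtain ⟨⟨hone, hzne⟩, hall⟩ := hr
  obtain ⟨hnorm, -, -⟩ := normal_ok
  rw [List.all_eq_true] at hnorm
  have okz : ok 105 z = true := by
    have := hnorm z (List.mem_of_getElem? hz)
    simp only [normalOK, Bool.and_eq_true] at this; exact this.1.1
  obtain ⟨zk, hzk⟩ : ∃ q : Ker, block q.1.1 = toPerm 105 z := by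
    have h := hnorm z (List.mem_of_getElem? hz)
    simp only [normalOK, Bool.and_eq_true, List.all_eq_true, List.mem_range, beq_iff_eq] at h
    have hΓ := mem_grp_of_sift _ _ _ checkA (rep_fst okz) h.1.2
    obtain ⟨⟨c, b⟩, hq⟩ := Γ_le hΓ
    have hb : b = 1 := Equiv.ext fun x => Fin.natAdd_injective 5 100 (Fin.ext (by
      have := rep_fst okz (Fin.natAdd 100 x)
      rw [← hq, block_right] at this
      simp only [Fin.val_natAdd] at this
      rw [h.2 x x.isLt] at this
      simp only [Equiv.Perm.one_apply, Fin.val_natAdd]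
      exact this.symm))
    exact ⟨⟨⟨(c, b), show block (c, b) ∈ Γ by rw [hq]; exact hΓ⟩, MonoidHom.mem_ker.mpr (Subtype.ext hb)⟩, hq⟩
  have B : ∀ a b : Ker, block (a * b).1.1 = block a.1.1 * block b.1.1 := fun a b => map_mul block _ _
  have B1 : block (1 : Ker).1.1 = 1 := map_one block
  have base : ([0, 1, 2, 3] : List ℕ) = [((1 : Equiv.Perm (Fin 105)) 0 : ℕ), (1 : Equiv.Perm (Fin 105)) 1,
      (1 : Equiv.Perm (Fin 105)) 2, (1 : Equiv.Perm (Fin 105)) 3] := rfl
  have szk : sig4 z.1 = [(block zk.1.1 0 : ℕ), block zk.1.1 1, block zk.1.1 2, block zk.1.1 3] := by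
    rw [hzk]; exact sig4_of_rep (rep_fst okz)
  refine ExtraspecialCrit.isExtraspecial (IsPGroup.of_card (n := 5) (by rw [card_split.1]; norm_num)) zk ?_ ?_ ?_ ?_ ?_ ?_
  · intro h
    exact hzne (by rw [szk, h, B1]; rfl)
  · rw [Subgroup.mem_center_iff]
    intro a
    obtain ⟨e, he, oke, ea⟩ := ker_listed a
    refine ker_eq (eq_of_sig (a * zk).1.2 (zk * a).1.2 ?_)
    rw [B, B, hzk, ← ea, ← mul_sig (rep_fst oke) (rep_fst okz), ← mul_sig (rep_fst okz) (rep_fst oke)]
    exact (hall e he).1.1.2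
  · intro a b
    obtain ⟨e, he, oke, ea⟩ := ker_listed a
    obtain ⟨e', he', oke', eb⟩ := ker_listed b
    rcases (hall e he).2 e' he' with h | h
    · left
      rw [commutatorElement_eq_one_iff_commute]
      refine ker_eq (eq_of_sig (a * b).1.2 (b * a).1.2 ?_)
      rw [B, B, ← ea, ← eb, ← mul_sig (rep_fst oke) (rep_fst oke'), ← mul_sig (rep_fst oke') (rep_fst oke)]
      exact h
    · right
      have : a * b = zk * (b * a) := by
        refine ker_eq (eq_of_sig (a * b).1.2 (zk * (b * a)).1.2 ?_)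
        rw [B, B, B, ← ea, ← eb, hzk]
        simp only [Equiv.Perm.mul_apply, ← rep_fst oke _, ← rep_fst oke' _, ← rep_fst okz _]
        simpa using h
      rw [commutatorElement_def, this]; group
  · intro a
    obtain ⟨e, he, oke, ea⟩ := ker_listed a
    rcases (hall e he).1.1.1 with h | h
    · left
      refine ker_eq (eq_of_sig (a * a).1.2 (1 : Ker).1.2 ?_)
      rw [B, B1, ← ea, ← mul_sig (rep_fst oke) (rep_fst oke), ← base, h, hone]
    · right
      refine ker_eq (eq_of_sig (a * a).1.2 zk.1.2 ?_)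
      rw [B, ← ea, ← mul_sig (rep_fst oke) (rep_fst oke), h, szk]
  · intro a ha
    obtain ⟨e, he, oke, ea⟩ := ker_listed a
    rcases (hall e he).1.2 with (h | h) | ⟨e', he', h⟩
    · left
      refine ker_eq (eq_of_sig a.1.2 (1 : Ker).1.2 ?_)
      rw [B1, ← ea, ← sig4_of_rep (rep_fst oke), ← base, h, hone]
    · right
      refine ker_eq (eq_of_sig a.1.2 zk.1.2 ?_)
      rw [← ea, ← sig4_of_rep (rep_fst oke), h, szk]
    · exfalso
      obtain ⟨⟨ok', sf'⟩, fx'⟩ : (ok 105 e' = true ∧ sift 105 chainA e'.1 = true) ∧ _ := by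
        have := hnorm e' he'
        simp only [normalOK, Bool.and_eq_true] at this
        exact this
      have hΓ := mem_grp_of_sift _ _ _ checkA (rep_fst ok') sf'
      obtain ⟨⟨c, b⟩, hq⟩ := Γ_le hΓ
      have hb : b = 1 := Equiv.ext fun x => Fin.natAdd_injective 5 100 (Fin.ext (by
        have := rep_fst ok' (Fin.natAdd 100 x)
        rw [← hq, block_right] at this
        simp only [Fin.val_natAdd] at this
        simp only [List.all_eq_true, List.mem_range, beq_iff_eq] at fx'
        rw [fx' x x.isLt] at this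
        simp only [Equiv.Perm.one_apply, Fin.val_natAdd]
        exact this.symm))
      let q : Ker := ⟨⟨(c, b), show block (c, b) ∈ Γ by rw [hq]; exact hΓ⟩, MonoidHom.mem_ker.mpr (Subtype.ext hb)⟩
      have hc := congrArg (fun x : Ker => block x.1.1) (Subgroup.mem_center_iff.mp ha q)
      simp only [B] at hc
      rw [show block q.1.1 = toPerm 105 e' from hq, ← ea] at hc
      apply h
      rw [mul_sig (rep_fst oke) (rep_fst ok'), mul_sig (rep_fst ok') (rep_fst oke), hc]
  · by_contra hno
    push Not at hno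
    have hz2 : zk ∈ Subgroup.center Ker := Subgroup.mem_center_iff.mpr fun g => (hno g zk).eq
    have htop : ∀ a : Ker, a = 1 ∨ a = zk := fun a => by
      obtain ⟨e, he, oke, ea⟩ := ker_listed a
      rcases (hall e he).1.2 with (h | h) | ⟨e', he', h⟩
      · exact Or.inl (ker_eq (eq_of_sig a.1.2 (1 : Ker).1.2 (by rw [B1, ← ea, ← sig4_of_rep (rep_fst oke), ← base, h, hone])))
      · exact Or.inr (ker_eq (eq_of_sig a.1.2 zk.1.2 (by rw [← ea, ← sig4_of_rep (rep_fst oke), h, szk])))
      · exfalso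
        have h1 := hnorm e' he'
        simp only [normalOK, Bool.and_eq_true, List.all_eq_true, List.mem_range, beq_iff_eq] at h1
        have hΓ := mem_grp_of_sift _ _ _ checkA (rep_fst h1.1.1) h1.1.2
        obtain ⟨⟨c, b⟩, hq⟩ := Γ_le hΓ
        have hb : b = 1 := Equiv.ext fun x => Fin.natAdd_injective 5 100 (Fin.ext (by
          have := rep_fst h1.1.1 (Fin.natAdd 100 x)
          rw [← hq, block_right] at this
          simp only [Fin.val_natAdd] at this
          rw [h1.2 x x.isLt] at this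
          simp only [Equiv.Perm.one_apply, Fin.val_natAdd]
          exact this.symm))
        let q : Ker := ⟨⟨(c, b), show block (c, b) ∈ Γ by rw [hq]; exact hΓ⟩, MonoidHom.mem_ker.mpr (Subtype.ext hb)⟩
        have hc := congrArg (fun x : Ker => block x.1.1) (hno q a).eq
        simp only [B] at hc
        rw [show block q.1.1 = toPerm 105 e' from hq, ← ea] at hc
        apply h
        rw [mul_sig (rep_fst oke) (rep_fst h1.1.1), mul_sig (rep_fst h1.1.1) (rep_fst oke), hc]
    have : Nat.card Ker ≤ 2 := by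
      refine (Nat.card_le_card_of_surjective (fun b : Bool => bif b then zk else 1) fun a => ?_).trans_eq (Nat.card_eq_fintype_card.trans Fintype.card_bool)
      rcases htop a with rfl | rfl
      exacts [⟨false, rfl⟩, ⟨true, rfl⟩]
    rw [card_split.1] at this
    omega

end CfsgLib.Sporadic.Icosian.Centralizer

namespace CfsgLib.Sporadic.Icosian.Centralizer

open Cfsg.Spor

/-- Extraspecial groups are preserved by isomorphisms. -/
theorem isExtraspecial_of_equiv {A B : Type*} [Group A] [Group B] (e : A ≃* B) (hA : Cfsg.IsExtraspecial 2 A) :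
    Cfsg.IsExtraspecial 2 B := by
  obtain ⟨⟨hp, hf, hc⟩, hz⟩ := hA
  have hcz : (Subgroup.center A).map e.toMonoidHom = Subgroup.center B := by
    refine le_antisymm ?_ fun y hy => ⟨e.symm y, ?_, e.apply_symm_apply y⟩
    · rintro _ ⟨x, hx, rfl⟩
      rw [Subgroup.mem_center_iff]
      intro y
      obtain ⟨x', rfl⟩ := e.surjective y
      exact (map_mul e x' x).symm.trans ((congrArg e (Subgroup.mem_center_iff.1 hx x')).trans (map_mul e x x'))
    · rw [SetLike.mem_coe, Subgroup.mem_center_iff]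
      intro x'
      apply e.injective
      rw [map_mul, map_mul, e.apply_symm_apply]
      exact Subgroup.mem_center_iff.1 hy (e x')
  refine ⟨⟨hp.of_equiv e, ?_, ?_⟩, ?_⟩
  · rw [← hcz, ← hf]
    refine le_antisymm (fun y hy => ⟨e.symm y,
      frattini_le_comap_frattini_of_surjective (φ := e.symm.toMonoidHom) e.symm.surjective hy,
      e.apply_symm_apply y⟩) (Subgroup.map_le_iff_le_comap.2
        (frattini_le_comap_frattini_of_surjective (φ := e.toMonoidHom) e.surjective))
  · rw [← hcz, ← hc, _root_.commutator_def, _root_.commutator_def, Subgroup.map_commutator,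
      Subgroup.map_top_of_surjective _ e.surjective]
  · rw [← hcz, Subgroup.card_map_of_injective e.injective, hz]

/-- An isomorphism carries centralisers to centralisers. -/
noncomputable def centEquiv {A B : Type*} [Group A] [Group B] (e : A ≃* B) (x : A) :
    Subgroup.centralizer ({x} : Set A) ≃* Subgroup.centralizer ({e x} : Set B) :=
  (e.subgroupMap _).trans (MulEquiv.subgroupCongr (by
    ext y
    simp only [Subgroup.mem_map, Subgroup.mem_centralizer_singleton_iff]
    constructor
    · rintro ⟨z, hz, rfl⟩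
      exact (map_mul e z x).symm.trans ((congrArg e hz).trans (map_mul e x z))
    · intro h
      refine ⟨e.symm y, ?_, e.apply_symm_apply y⟩
      apply e.injective
      simpa using h))

theorem structure_of_refl (i : Ix) :
    ∃ (Q : Subgroup ↥(Subgroup.centralizer {(QuotientGroup.mk ⟨refl i, refl_mem_twoJ2 i⟩ : J2)})) (_ : Q.Normal),
      Nat.card Q = 32 ∧ Cfsg.IsExtraspecial 2 Q ∧
        Nonempty (↥(Subgroup.centralizer {(QuotientGroup.mk ⟨refl i, refl_mem_twoJ2 i⟩ : J2)}) ⧸ Q ≃*
          alternatingGroup (Fin 5)) := by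
  set x : J2 := QuotientGroup.mk ⟨refl i, refl_mem_twoJ2 i⟩ with hx
  obtain ⟨g, hg, e⟩ := exists_conj i 0
  let f : J2 ≃* J := equivJ.trans (MulAut.conj (toJ ⟨g, hg⟩))
  have hf : f x = (⟨invol 0, J_eq_closure ▸ Subgroup.subset_closure ⟨0, rfl⟩⟩ : J) := by
    have e' : (⟨g, hg⟩ : twoJ2) * ⟨refl i, refl_mem_twoJ2 i⟩ * ⟨g, hg⟩⁻¹ = ⟨refl 0, refl_mem_twoJ2 0⟩ := Subtype.ext e
    have hx' : equivJ x = toJ ⟨refl i, refl_mem_twoJ2 i⟩ := rfl
    show toJ ⟨g, hg⟩ * equivJ x * (toJ ⟨g, hg⟩)⁻¹ = _
    rw [hx', ← map_mul, ← map_inv, ← map_mul, e']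
    exact Subtype.ext (toJ_refl 0)
  let E : pairs ≃* ↥(Subgroup.centralizer ({x} : Set J2)) :=
    (MulEquiv.ofBijective toCen toCen_bijective).trans ((MulEquiv.subgroupCongr (by rw [hf])).trans (centEquiv f x).symm)
  refine ⟨(toAlt.comp E.symm.toMonoidHom).ker, inferInstance, ?_, ?_, ⟨?_⟩⟩
  · rw [← card_split.1]
    refine Nat.card_congr (Equiv.subtypeEquiv E.symm.toEquiv fun y => ?_)
    rfl
  · refine isExtraspecial_of_equiv ?_ isExtraspecial_Ker
    exact
      { toFun := fun p => ⟨E p.1, by simp [p.2, MonoidHom.mem_ker.mp p.2]⟩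
        invFun := fun p => ⟨E.symm p.1, MonoidHom.mem_ker.mp p.2⟩
        left_inv := fun p => Subtype.ext (E.symm_apply_apply _)
        right_inv := fun p => Subtype.ext (E.apply_symm_apply _)
        map_mul' := fun p q => Subtype.ext (map_mul E _ _) }
  · exact QuotientGroup.quotientKerEquivOfSurjective _ (card_split.2.comp E.symm.surjective)

end CfsgLib.Sporadic.Icosian.Centralizer
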