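import Cfsg.Agent.Lib.Sporadic.Icosian.Lattice

/-!
# Codes, norms and class keys
-/

set_option autoImplicit false

namespace CfsgLib.Sporadic.Icosian

open Quaternion Cfsg.Spor

namespace Q8

/-- A small integer as a digit. -/
def dig (a : ℤ) : ℕ := (a + 8).toNat

/-- The code of a pair. -/
def encP (p : P2) : ℕ := dig p.a * 16 + dig p.b

/-- The pair of a code. -/
def decP (n : ℕ) : P2 := ⟨((n / 16 % 16 : ℕ) : ℤ) - 8, ((n % 16 : ℕ) : ℤ) - 8⟩

/-- The code of a quaternion. -/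
def enc (x : Q8) : ℕ := ((encP x.r * 256 + encP x.i) * 256 + encP x.j) * 256 + encP x.k

/-- The quaternion of a code. -/
def dec (n : ℕ) : Q8 := ⟨decP (n / 16777216 % 256), decP (n / 65536 % 256), decP (n / 256 % 256), decP (n % 256)⟩

/-- Small coordinates. -/
def SmallP (p : P2) : Prop := (-4 ≤ p.a ∧ p.a ≤ 4) ∧ (-4 ≤ p.b ∧ p.b ≤ 4)

theorem encP_lt {p : P2} (h : SmallP p) : encP p < 256 := by
  obtain ⟨⟨h1, h2⟩, h3, h4⟩ := h; simp only [encP, dig]; omega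

theorem decP_encP {p : P2} (h : SmallP p) : decP (encP p) = p := by
  obtain ⟨a, b⟩ := p; obtain ⟨⟨h1, h2⟩, h3, h4⟩ := h
  simp only [decP, encP, dig, P2.mk.injEq] at *; omega

theorem dec_enc {x : Q8} (h : SmallP x.r ∧ SmallP x.i ∧ SmallP x.j ∧ SmallP x.k) : dec (enc x) = x := by
  obtain ⟨r, i, j, k⟩ := x
  obtain ⟨h1, h2, h3, h4⟩ := h
  simp only at h1 h2 h3 h4
  have b1 := encP_lt h1; have b2 := encP_lt h2; have b3 := encP_lt h3; have b4 := encP_lt h4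
  simp only [dec, enc, Q8.mk.injEq]
  refine ⟨?_, ?_, ?_, ?_⟩ <;> [rw [← decP_encP h1]; rw [← decP_encP h2]; rw [← decP_encP h3]; rw [← decP_encP h4]] <;>
    congr 1 <;> rw [decP_encP] <;> first | omega | assumption

/-- The norm of a pair. -/
def sqP (p : P2) : P2 := P2.mul p p

/-- Four times the norm. -/
def nrm (x : Q8) : P2 := ((sqP x.r).add (sqP x.i)).add ((sqP x.j).add (sqP x.k))

theorem raw_conj_r (x : Q8) : (raw x (conj x)).r = nrm x := by
  obtain ⟨⟨a, b⟩, ⟨c, d⟩, ⟨e, f⟩, ⟨g, h⟩⟩ := x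
  simp only [raw, conj, nrm, sqP, P2.add, P2.neg, P2.mul, P2.mk.injEq]
  constructor <;> ring

/-- Positive in both real places. -/
def Pos (p : P2) : Prop := 0 ≤ (p.a : ℝ) + p.b * tau ∧ 0 ≤ (p.a : ℝ) + p.b * sig

theorem pos_add {p q : P2} (hp : Pos p) (hq : Pos q) : Pos (p.add q) := by
  simp only [Pos, P2.add, Int.cast_add] at *
  constructor <;> linarith [hp.1, hp.2, hq.1, hq.2]

theorem pos_sqP (p : P2) : Pos (sqP p) := by
  have h1 : tau ^ 2 = tau + 1 := P2.tau_sq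
  have h2 : sig ^ 2 = sig + 1 := by
    have h : Real.sqrt 5 ^ 2 = 5 := Real.sq_sqrt (by norm_num)
    rw [sig]; linear_combination (1 / 4 : ℝ) * h
  simp only [Pos, sqP, P2.mul]; push_cast
  constructor
  · nlinarith [sq_nonneg ((p.a : ℝ) + p.b * tau)]
  · nlinarith [sq_nonneg ((p.a : ℝ) + p.b * sig)]

theorem pos_nrm (x : Q8) : Pos (nrm x) :=
  pos_add (pos_add (pos_sqP _) (pos_sqP _)) (pos_add (pos_sqP _) (pos_sqP _))

/-- The Boolean form of positivity. -/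
def tot (p : P2) : Bool := decide (0 ≤ 2 * p.a + p.b) && decide (5 * (p.b * p.b) ≤ (2 * p.a + p.b) * (2 * p.a + p.b))

theorem tot_of_pos {p : P2} (h : Pos p) : tot p = true := by
  obtain ⟨h1, h2⟩ := h
  simp only [tau, sig] at h1 h2
  have hs : Real.sqrt 5 ^ 2 = 5 := Real.sq_sqrt (by norm_num)
  simp only [tot, Bool.and_eq_true, decide_eq_true_eq]
  constructor
  · have : (0 : ℝ) ≤ 2 * (p.a : ℝ) + p.b := by linarith
    exact_mod_cast this
  · have a1 : 0 ≤ (2 * (p.a : ℝ) + p.b) + p.b * Real.sqrt 5 := by linarith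
    have a2 : 0 ≤ (2 * (p.a : ℝ) + p.b) - p.b * Real.sqrt 5 := by linarith
    have : (5 * ((p.b : ℝ) * p.b)) ≤ (2 * (p.a : ℝ) + p.b) * (2 * p.a + p.b) := by nlinarith [mul_nonneg a1 a2]
    exact_mod_cast this

/-- The parity form of a quaternion, read modulo eight. -/
def bit (f : ℤ) : ℕ := ((f / 4) % 2).toNat

/-- The key of the class modulo an ideal, from the product with the conjugate generator. -/
def keyOf (r : Q8) : ℕ :=
  bit (r.j.a - (r.r.b + r.i.a + r.i.b)) + 2 * bit (r.j.b - (r.r.a + r.r.b + r.i.a)) +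
    4 * bit (r.k.a - (r.r.a + r.r.b + r.i.b)) + 8 * bit (r.k.b - (r.r.a + r.i.a + r.i.b))

/-- The key. -/
def key (g x : Q8) : ℕ := keyOf (raw x g)

theorem xor_bits : ∀ a b c d a' b' c' d' : Fin 2,
    ((a + a' : Fin 2) : ℕ) + 2 * ((b + b' : Fin 2) : ℕ) + 4 * ((c + c' : Fin 2) : ℕ) + 8 * ((d + d' : Fin 2) : ℕ) =
      ((a : ℕ) + 2 * b + 4 * c + 8 * d) ^^^ ((a' : ℕ) + 2 * b' + 4 * c' + 8 * d') := by decide

theorem bit_lt (f : ℤ) : bit f < 2 := by simp only [bit]; omega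

theorem bit_add {f g : ℤ} (hf : f % 4 = 0) : bit (f + g) = (bit f + bit g) % 2 := by
  simp only [bit]; omega

theorem keyOf_add {r s : Q8} (hr : ∃ q, inI q = true ∧ r = smul 2 q) : keyOf (add r s) = keyOf r ^^^ keyOf s := by
  obtain ⟨q, hq, rfl⟩ := hr
  rw [inI_iff] at hq
  obtain ⟨h1, h2, h3, h4⟩ := hq
  let B := fun f : ℤ => (⟨bit f, bit_lt f⟩ : Fin 2)
  have key := fun a b c d a' b' c' d' : ℤ => xor_bits (B a) (B b) (B c) (B d) (B a') (B b') (B c') (B d')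
  simp only [keyOf, smul, P2.smul, add, P2.add]
  refine Eq.trans ?_ (key _ _ _ _ _ _ _ _)
  simp only [B, Fin.val_add]
  rw [← bit_add (by omega), ← bit_add (by omega), ← bit_add (by omega), ← bit_add (by omega)]
  congr 5 <;> first | rfl | omega | (congr 1; omega) | (congr 2; omega)

theorem key_add {g x y : Q8} (hg : inI g = true) (hx : inI x = true) : key g (add x y) = key g x ^^^ key g y := by
  rw [key, raw_add_left]
  exact keyOf_add ⟨_, (raw_even hx hg).2.1, (raw_even hx hg).1⟩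

theorem key_eq_zero {g x : Q8} (h : inIh g x = true) : key g x = 0 := by
  simp only [inIh, Bool.and_eq_true, beq_iff_eq] at h
  obtain ⟨h1, h2⟩ := h
  rw [key, h1]
  rw [inI_iff] at h2
  revert h2
  generalize half (half (raw x g)) = a
  intro h2
  simp only [keyOf, smul, P2.smul, bit]
  omega

theorem key_lt (g x : Q8) : key g x < 16 := by
  simp only [key, keyOf]
  have := fun f : ℤ => bit_lt f
  have a := this ((raw x g).j.a - ((raw x g).r.b + (raw x g).i.a + (raw x g).i.b))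
  have b := this ((raw x g).j.b - ((raw x g).r.a + (raw x g).r.b + (raw x g).i.a))
  have c := this ((raw x g).k.a - ((raw x g).r.a + (raw x g).r.b + (raw x g).i.b))
  have d := this ((raw x g).k.b - ((raw x g).r.a + (raw x g).i.a + (raw x g).i.b))
  omega

theorem key_eq_of_sub {g x y : Q8} (hg : inI g = true) (hx : inI x = true) (hy : inI y = true)
    (h : inIh g (sub x y) = true) : key g x = key g y := by
  have e : x = add (sub x y) y := toH_injective (by simp [toH_add, toH_sub])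
  conv_lhs => rw [e]
  rw [key_add hg (inI_sub hx hy), key_eq_zero h, Nat.zero_xor]

/-- The constant when the multiplier is odd. -/
def sel (n : ℤ) (k : ℕ) : ℕ := bif n % 2 == 0 then 0 else k

theorem key_smul {g b : Q8} (hg : inI g = true) (hb : inI b = true) (n : ℤ) :
    key g (smul n b) = sel n (key g b) := by
  obtain ⟨m, rfl | rfl⟩ := Int.even_or_odd' n
  · rw [show smul (2 * m) b = add (smul m b) (smul m b) from
      toH_injective (by rw [toH_smul, toH_add, toH_smul, ← add_smul]; congr 1; push_cast; ring),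
      key_add hg (inI_smul m hb), Nat.xor_self, sel, show (2 * m % 2 == 0) = true from beq_iff_eq.mpr (by omega)]
    rfl
  · rw [show smul (2 * m + 1) b = add (add (smul m b) (smul m b)) b from
      toH_injective (by
        rw [toH_smul, toH_add, toH_add, toH_smul, ← add_smul]
        conv_rhs => rw [← one_smul ℝ (toH b), smul_smul, mul_one]
        rw [← add_smul]; congr 1; push_cast; ring),
      key_add hg (inI_add (inI_smul m hb) (inI_smul m hb)), key_add hg (inI_smul m hb), Nat.xor_self, Nat.zero_xor,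
      sel, show ((2 * m + 1) % 2 == 0) = false from beq_eq_false_iff_ne.mpr (by omega)]
    rfl

/-- The key for the first ideal from the coordinates. -/
def keyA (x : Q8) : ℕ :=
  (((sel x.r.a 15) ^^^ (sel x.r.b 6)) ^^^ ((sel x.i.a 4) ^^^ (sel x.i.b 14))) ^^^
    (((sel ((x.j.a - (x.r.b + x.i.a + x.i.b)) / 2) 3) ^^^ (sel ((x.j.b - (x.r.a + x.r.b + x.i.a)) / 2) 11)) ^^^ ((sel ((x.k.a - (x.r.a + x.r.b + x.i.b)) / 2) 3) ^^^ (sel ((x.k.b - (x.r.a + x.i.a + x.i.b)) / 2) 11)))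

/-- The key for the second ideal from the coordinates. -/
def keyB (x : Q8) : ℕ :=
  (((sel x.r.a 15) ^^^ (sel x.r.b 6)) ^^^ ((sel x.i.a 4) ^^^ (sel x.i.b 14))) ^^^
    (((sel ((x.j.a - (x.r.b + x.i.a + x.i.b)) / 2) 2) ^^^ (sel ((x.j.b - (x.r.a + x.r.b + x.i.a)) / 2) 9)) ^^^ ((sel ((x.k.a - (x.r.a + x.r.b + x.i.b)) / 2) 7) ^^^ (sel ((x.k.b - (x.r.a + x.i.a + x.i.b)) / 2) 3)))

theorem key_sum {g b1 b2 b3 b4 b5 b6 b7 b8 : Q8} (hg : inI g = true) (h1 : inI b1 = true) (h2 : inI b2 = true)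
    (h3 : inI b3 = true) (h4 : inI b4 = true) (h5 : inI b5 = true) (h6 : inI b6 = true) (h7 : inI b7 = true)
    (h8 : inI b8 = true) (n1 n2 n3 n4 n5 n6 n7 n8 : ℤ) :
    key g ((((smul n1 b1).add (smul n2 b2)).add ((smul n3 b3).add (smul n4 b4))).add
      (((smul n5 b5).add (smul n6 b6)).add ((smul n7 b7).add (smul n8 b8)))) =
    ((sel n1 (key g b1) ^^^ sel n2 (key g b2)) ^^^ (sel n3 (key g b3) ^^^ sel n4 (key g b4))) ^^^
    ((sel n5 (key g b5) ^^^ sel n6 (key g b6)) ^^^ (sel n7 (key g b7) ^^^ sel n8 (key g b8))) := by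
  rw [key_add hg (inI_add (inI_add (inI_smul _ h1) (inI_smul _ h2)) (inI_add (inI_smul _ h3) (inI_smul _ h4))),
    key_add hg (inI_add (inI_smul _ h1) (inI_smul _ h2)), key_add hg (inI_smul _ h1), key_add hg (inI_smul _ h3),
    key_add hg (inI_add (inI_smul _ h5) (inI_smul _ h6)), key_add hg (inI_smul _ h5), key_add hg (inI_smul _ h7),
    key_smul hg h1, key_smul hg h2, key_smul hg h3, key_smul hg h4, key_smul hg h5, key_smul hg h6,
    key_smul hg h7, key_smul hg h8]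

theorem key_expand {g x : Q8} (hg : inI g = true) (hx : inI x = true) : key g x =
    ((sel x.r.a (key g ⟨⟨1, 0⟩, ⟨0, 0⟩, ⟨0, 1⟩, ⟨1, 1⟩⟩) ^^^ sel x.r.b (key g ⟨⟨0, 1⟩, ⟨0, 0⟩, ⟨1, 1⟩, ⟨1, 0⟩⟩)) ^^^
      (sel x.i.a (key g ⟨⟨0, 0⟩, ⟨1, 0⟩, ⟨1, 1⟩, ⟨0, 1⟩⟩) ^^^ sel x.i.b (key g ⟨⟨0, 0⟩, ⟨0, 1⟩, ⟨1, 0⟩, ⟨1, 1⟩⟩))) ^^^
    ((sel ((x.j.a - (x.r.b + x.i.a + x.i.b)) / 2) (key g ⟨⟨0, 0⟩, ⟨0, 0⟩, ⟨2, 0⟩, ⟨0, 0⟩⟩) ^^^ sel ((x.j.b - (x.r.a + x.r.b + x.i.a)) / 2) (key g ⟨⟨0, 0⟩, ⟨0, 0⟩, ⟨0, 2⟩, ⟨0, 0⟩⟩)) ^^^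
      (sel ((x.k.a - (x.r.a + x.r.b + x.i.b)) / 2) (key g ⟨⟨0, 0⟩, ⟨0, 0⟩, ⟨0, 0⟩, ⟨2, 0⟩⟩) ^^^ sel ((x.k.b - (x.r.a + x.i.a + x.i.b)) / 2) (key g ⟨⟨0, 0⟩, ⟨0, 0⟩, ⟨0, 0⟩, ⟨0, 2⟩⟩))) := by
  conv_lhs => rw [expand hx]
  exact key_sum hg (by decide) (by decide) (by decide) (by decide) (by decide) (by decide) (by decide) (by decide) _ _ _ _ _ _ _ _

theorem keyA_eq {x : Q8} (hx : inI x = true) : key (conj hq) x = keyA x := by
  rw [key_expand hq_inI.2 hx, keyA]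
  congr 1 <;> congr 1 <;> congr 1 <;> congr 1 <;> decide +kernel

theorem keyB_eq {x : Q8} (hx : inI x = true) : key hq x = keyB x := by
  rw [key_expand hq_inI.1 hx, keyB]
  congr 1 <;> congr 1 <;> congr 1 <;> congr 1 <;> decide +kernel

end Q8

end CfsgLib.Sporadic.Icosian
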