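import Cfsg.Agent.Lib.Sporadic.Icosian.Ring

/-!
# The lattice and its reflections
-/

set_option autoImplicit false

namespace CfsgLib.Sporadic.Icosian

open Quaternion Cfsg.Spor

open Q8 (toH inI inIh hq)

/-- Vectors of three quaternions. -/
abbrev HV : Type := Fin 3 → ℍ[ℝ]

/-- Left multiplication of a vector by a quaternion. -/
noncomputable def lmul (a : ℍ[ℝ]) (x : HV) : HV := fun t => a * x t

theorem lmul_lmul (a b : ℍ[ℝ]) (x : HV) : lmul a (lmul b x) = lmul (a * b) x :=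
  funext fun _ => (mul_assoc _ _ _).symm

theorem one_lmul (x : HV) : lmul 1 x = x := funext fun _ => one_mul _

theorem leftIdeal_add {q a b : ℍ[ℝ]} (ha : a ∈ leftIdeal q) (hb : b ∈ leftIdeal q) : a + b ∈ leftIdeal q := by
  obtain ⟨x, hx, rfl⟩ := ha; obtain ⟨y, hy, rfl⟩ := hb
  exact ⟨x + y, add_mem hx hy, (add_mul _ _ _).symm⟩

theorem leftIdeal_mul {q a c : ℍ[ℝ]} (hc : c ∈ icosians) (ha : a ∈ leftIdeal q) : c * a ∈ leftIdeal q := by
  obtain ⟨x, hx, rfl⟩ := ha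
  exact ⟨c * x, mul_mem hc hx, (mul_assoc _ _ _).symm⟩

theorem icoLeech_add {v w : HV} (hv : v ∈ icoLeech) (hw : w ∈ icoLeech) : v + w ∈ icoLeech := by
  obtain ⟨h1, h2, h3, h4⟩ := hv; obtain ⟨k1, k2, k3, k4⟩ := hw
  refine ⟨fun t => add_mem (h1 t) (k1 t), ?_, ?_, ?_⟩ <;> simp only [Pi.add_apply]
  · rw [add_sub_add_comm]; exact leftIdeal_add h2 k2
  · rw [add_sub_add_comm]; exact leftIdeal_add h3 k3
  · rw [show v 0 + w 0 + (v 1 + w 1) + (v 2 + w 2) = (v 0 + v 1 + v 2) + (w 0 + w 1 + w 2) by abel]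
    exact leftIdeal_add h4 k4

theorem icoLeech_lmul {v : HV} {c : ℍ[ℝ]} (hc : c ∈ icosians) (hv : v ∈ icoLeech) : lmul c v ∈ icoLeech := by
  obtain ⟨h1, h2, h3, h4⟩ := hv
  refine ⟨fun t => mul_mem hc (h1 t), ?_, ?_, ?_⟩ <;> simp only [lmul]
  · rw [← mul_sub]; exact leftIdeal_mul hc h2
  · rw [← mul_sub]; exact leftIdeal_mul hc h3
  · rw [← mul_add, ← mul_add]; exact leftIdeal_mul hc h4

theorem four_eq : (4 : ℍ[ℝ]) = (4 : ℝ) • (1 : ℍ[ℝ]) := by
  rw [← Algebra.algebraMap_eq_smul_one, map_ofNat]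

/-- A vector in coordinates. -/
structure V3 where
  x : Q8
  y : Q8
  z : Q8
deriving DecidableEq

namespace V3

/-- The vector. -/
noncomputable def toV (v : V3) : HV := ![toH v.x, toH v.y, toH v.z]

/-- The membership test. -/
def lat (v : V3) : Bool :=
  inI v.x && inI v.y && inI v.z && inIh (Q8.conj hq) (v.x.sub v.y) &&
    inIh (Q8.conj hq) (v.y.sub v.z) && inIh hq ((v.x.add v.y).add v.z)

/-- Difference. -/
def sub (v w : V3) : V3 := ⟨v.x.sub w.x, v.y.sub w.y, v.z.sub w.z⟩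

/-- Twice the Hermitian product. -/
def ip (v w : V3) : Q8 :=
  ((Q8.raw v.x (Q8.conj w.x)).add (Q8.raw v.y (Q8.conj w.y))).add (Q8.raw v.z (Q8.conj w.z))

theorem toV_injective : Function.Injective toV := by
  rintro ⟨a, b, c⟩ ⟨a', b', c'⟩ h
  have h0 := Q8.toH_injective (congrFun h 0)
  have h1 := Q8.toH_injective (congrFun h 1)
  have h2 := Q8.toH_injective (congrFun h 2)
  simp only at h0 h1 h2
  rw [h0, h1, h2]

theorem mem_iff (v : V3) : toV v ∈ icoLeech ↔ lat v = true := by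
  simp only [icoLeech, Set.mem_ofPred_eq, toV, Matrix.cons_val_zero, Matrix.cons_val_one,
    Matrix.cons_val, ← Q8.toH_sub, ← Q8.toH_add, Q8.mem_left, Q8.mem_left', lat, Bool.and_eq_true]
  constructor
  · rintro ⟨h, h1, h2, h3⟩
    exact ⟨⟨⟨⟨⟨Q8.toH_mem.mp (h 0), Q8.toH_mem.mp (h 1)⟩, Q8.toH_mem.mp (h 2)⟩, h1⟩, h2⟩, h3⟩
  · rintro ⟨⟨⟨⟨⟨a, b⟩, c⟩, h1⟩, h2⟩, h3⟩
    refine ⟨fun t => ?_, h1, h2, h3⟩
    fin_cases t
    exacts [Q8.toH_mem.mpr a, Q8.toH_mem.mpr b, Q8.toH_mem.mpr c]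

theorem exists_of_mem {v : HV} (hv : v ∈ icoLeech) : ∃ w, lat w = true ∧ toV w = v := by
  obtain ⟨x, -, hx⟩ := Q8.mem_icosians.mp (hv.1 0)
  obtain ⟨y, -, hy⟩ := Q8.mem_icosians.mp (hv.1 1)
  obtain ⟨z, -, hz⟩ := Q8.mem_icosians.mp (hv.1 2)
  have e : toV ⟨x, y, z⟩ = v := funext fun t => by fin_cases t <;> simp [toV, hx, hy, hz]
  exact ⟨_, (mem_iff _).mp (e ▸ hv), e⟩

theorem qip_toV (v w : V3) : qip (toV v) (toV w) = (1 / 2 : ℝ) • toH (ip v w) := by
  simp only [qip, toV, Fin.sum_univ_three, Matrix.cons_val_zero, Matrix.cons_val_one,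
    Matrix.cons_val, ip, Q8.toH_add, Q8.toH_raw, Q8.toH_conj, ← smul_add, smul_smul]
  norm_num

theorem qip_eq_four (v : V3) : qip (toV v) (toV v) = 4 ↔ ip v v = Q8.smul 8 Q8.one := by
  have four : (4 : ℍ[ℝ]) = (1 / 2 : ℝ) • toH (Q8.smul 8 Q8.one) := by
    rw [Q8.toH_smul, Q8.toH_one, smul_smul, four_eq]; norm_num
  rw [qip_toV, four]
  exact ⟨fun h => Q8.toH_injective (smul_right_injective ℍ[ℝ] (by norm_num : (1 / 2 : ℝ) ≠ 0) h),
    fun h => by rw [h]⟩

end V3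

/-- The first basis vector. -/
def b1 : V3 := ⟨Q8.one, Q8.one, Q8.conj hq⟩
/-- The second basis vector. -/
def b2 : V3 := ⟨Q8.zero, hq, Q8.neg hq⟩
/-- The third basis vector. -/
def b3 : V3 := ⟨Q8.zero, Q8.zero, Q8.smul 2 Q8.one⟩

/-- The square root of five. -/
def rootFive : Q8 := ⟨⟨-2, 4⟩, ⟨0, 0⟩, ⟨0, 0⟩, ⟨0, 0⟩⟩

theorem inter_ideals {a b : ℍ[ℝ]} (ha : a ∈ icosians) (hb : b ∈ icosians) (h : a * icoH = b * star icoH) :
    ∃ c ∈ icosians, a * icoH = (2 : ℝ) • c := by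
  have hh : icoH * icoH = -(toH rootFive * icoH) - (2 : ℝ) • 1 := by
    rw [← Q8.toH_hq, ← sub_eq_zero]
    ext <;> simp [rootFive, hq, P2.toR, tau] <;> ring_nf <;>
      simp [Real.sq_sqrt (show (0 : ℝ) ≤ 5 by norm_num)] <;> ring
  have h2 : star icoH * icoH = (2 : ℝ) • 1 := by
    rw [← Q8.toH_conj_hq, ← Q8.toH_hq, Q8.hq_mul_conj.1, Q8.toH_smul, Q8.toH_one]; norm_num
  have hr : toH rootFive * toH rootFive = (5 : ℝ) • 1 := by
    rw [Q8.mul_of_raw (z := Q8.smul 5 Q8.one) (by decide), Q8.toH_smul, Q8.toH_one]; norm_num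
  have hc : ∀ q : ℍ[ℝ], toH rootFive * q = q * toH rootFive := fun q => by
    ext <;> simp [rootFive, P2.toR] <;> ring
  have hrI : toH rootFive ∈ icosians := Q8.toH_mem.mpr (by decide)
  have e1 : -(a * toH rootFive * icoH) = (2 : ℝ) • (a + b) := by
    have := congrArg (· * icoH) h
    simp only [mul_assoc, hh, h2, mul_sub, mul_neg, mul_smul_comm, mul_one] at this
    rw [smul_add, ← this]; rw [mul_assoc]; abel
  have e2 : (5 : ℝ) • (a * icoH) = (2 : ℝ) • (-((a + b) * toH rootFive)) := by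
    have := congrArg (· * toH rootFive) e1
    simp only [neg_mul, smul_mul_assoc] at this
    rw [smul_neg, ← this, neg_neg, mul_assoc (a * toH rootFive), ← hc icoH, mul_assoc a, ← mul_assoc (toH rootFive),
      hr, smul_mul_assoc, one_mul, mul_smul_comm]
  refine ⟨-((a + b) * toH rootFive) - (2 : ℕ) • (a * icoH),
    sub_mem (neg_mem (mul_mem (add_mem ha hb) hrI)) (nsmul_mem (mul_mem ha (Q8.toH_hq ▸ Q8.toH_mem.mpr (by decide))) 2), ?_⟩
  rw [smul_sub, ← e2, ← Nat.cast_smul_eq_nsmul ℝ, smul_smul, ← sub_smul]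
  norm_num

theorem decompose {v : HV} (hv : v ∈ icoLeech) : ∃ a ∈ icosians, ∃ b ∈ icosians, ∃ c ∈ icosians,
    v = lmul a b1.toV + lmul b b2.toV + lmul c b3.toV := by
  obtain ⟨hI, h1, h2, h3⟩ := hv
  obtain ⟨b, hb, e⟩ := h1
  have hzero : (0 : ℍ[ℝ]) = 0 * icoH := (zero_mul _).symm
  have hz1 : (1 : ℍ[ℝ]) - star icoH ∈ leftIdeal icoH := by
    rw [← Q8.toH_one, ← Q8.toH_conj_hq, ← Q8.toH_sub, Q8.mem_left]; decide +kernel
  have hz2 : (1 : ℍ[ℝ]) + 1 + star icoH ∈ leftIdeal (star icoH) := by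
    rw [← Q8.toH_one, ← Q8.toH_conj_hq, ← Q8.toH_add, ← Q8.toH_add,
      show leftIdeal (toH (Q8.conj hq)) = leftIdeal (star icoH) by rw [Q8.toH_conj_hq], Q8.mem_left']
    decide +kernel
  set z : ℍ[ℝ] := v 2 - v 0 * star icoH - b * icoH with hz
  obtain ⟨p, hp, ep⟩ := h2
  obtain ⟨q, hq, eq⟩ := h3
  obtain ⟨m, hm, em⟩ := hz1
  obtain ⟨n, hn, en⟩ := hz2
  have z1 : z = (v 0 * m - p) * icoH + (-b + -b) * icoH + 0 := by
    rw [hz, sub_mul, mul_assoc, ← em, ← ep, add_mul, neg_mul, ← e]; noncomm_ring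
  have z2 : z = (q - v 0 * n) * star icoH := by
    rw [hz, sub_mul, mul_assoc, ← en, ← eq, ← e]; noncomm_ring
  rw [add_zero, ← add_mul] at z1
  obtain ⟨c, hc, ec⟩ := inter_ideals (add_mem (sub_mem (mul_mem (hI 0) hm) hp) (add_mem (neg_mem hb) (neg_mem hb)))
    (sub_mem hq (mul_mem (hI 0) hn)) (z1.symm.trans z2)
  rw [← z1] at ec
  refine ⟨v 0, hI 0, -b, neg_mem hb, c, hc, funext fun t => ?_⟩
  have two : toH (Q8.smul 2 Q8.one) = (2 : ℝ) • 1 := by rw [Q8.toH_smul, Q8.toH_one]; norm_num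
  fin_cases t <;>
    simp [lmul, b1, b2, b3, V3.toV, Q8.toH_one, Q8.toH_zero, Q8.toH_hq, Q8.toH_conj_hq, Q8.toH_neg, two]
  · rw [← e]; abel
  · rw [← ec, hz]; abel

/-- A semilinear isometry of the space. -/
structure Iso3 where
  F : HV → HV
  add : ∀ x y, F (x + y) = F x + F y
  lin : ∀ a x, F (lmul a x) = lmul a (F x)
  iso : ∀ x y, qip (F x) (F y) = qip x y

/-- A map that is additive and left linear maps the lattice into itself once it does so on the basis. -/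
theorem map_lattice {F : HV → HV} (ha : ∀ x y, F (x + y) = F x + F y) (hl : ∀ a x, F (lmul a x) = lmul a (F x))
    (h1 : F b1.toV ∈ icoLeech) (h2 : F b2.toV ∈ icoLeech) (h3 : F b3.toV ∈ icoLeech)
    {v : HV} (hv : v ∈ icoLeech) : F v ∈ icoLeech := by
  obtain ⟨a, hA, b, hB, c, hC, rfl⟩ := decompose hv
  rw [ha, ha, hl, hl, hl]
  exact icoLeech_add (icoLeech_add (icoLeech_lmul hA h1) (icoLeech_lmul hB h2)) (icoLeech_lmul hC h3)

theorem qip_add_left (x y r : HV) : qip (x + y) r = qip x r + qip y r := by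
  simp only [qip, Pi.add_apply, add_mul, Finset.sum_add_distrib]

theorem qip_add_right (x r s : HV) : qip x (r + s) = qip x r + qip x s := by
  simp only [qip, Pi.add_apply, star_add, mul_add, Finset.sum_add_distrib]

theorem qip_lmul_left (a : ℍ[ℝ]) (x r : HV) : qip (lmul a x) r = a * qip x r := by
  simp only [qip, lmul, mul_assoc, Finset.mul_sum]

theorem qip_lmul_right (a : ℍ[ℝ]) (x r : HV) : qip x (lmul a r) = qip x r * star a := by
  simp only [qip, lmul, star_mul, mul_assoc, Finset.sum_mul]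

theorem qip_star (x r : HV) : star (qip x r) = qip r x := by
  simp only [qip, star_sum, star_mul, star_star]

theorem qip_neg_left (x r : HV) : qip (-x) r = -qip x r := by
  simp only [qip, Pi.neg_apply, neg_mul, Finset.sum_neg_distrib]

theorem qip_neg_right (x r : HV) : qip x (-r) = -qip x r := by
  simp only [qip, Pi.neg_apply, star_neg, mul_neg, Finset.sum_neg_distrib]

theorem qrefl_eq (r x : HV) : qrefl r x = x + -lmul ((1 / 2 : ℝ) • qip x r) r :=
  funext fun _ => sub_eq_add_neg _ _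

/-- A reflection as an isometry. -/
noncomputable def reflIso (r : HV) (hr : qip r r = 4) : Iso3 where
  F := qrefl r
  add x y := by
    funext t; simp only [qrefl, qip_add_left, smul_add, add_mul, Pi.add_apply]; abel
  lin a x := by
    funext t; simp only [qrefl, lmul, qip_lmul_left, mul_sub, ← mul_assoc, mul_smul_comm]
  iso x y := by
    simp only [qrefl_eq, qip_add_left, qip_add_right, qip_neg_left, qip_neg_right, qip_lmul_left,
      qip_lmul_right, hr, Quaternion.star_smul, qip_star, four_eq, smul_mul_assoc, mul_smul_comm, smul_smul,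
      mul_one, one_mul, neg_mul, mul_neg, add_mul, mul_add, smul_add, smul_neg]
    module

theorem qrefl_qrefl {r : HV} (hr : qip r r = 4) (x : HV) : qrefl r (qrefl r x) = x := by
  have h : qip (qrefl r x) r = -qip x r := by
    rw [qrefl_eq, qip_add_left, qip_neg_left, qip_lmul_left, hr, smul_mul_assoc,
      four_eq, mul_smul_comm, mul_one, smul_smul]
    module
  funext t
  simp only [qrefl] at h ⊢
  rw [h, smul_neg, neg_mul, sub_neg_eq_add, sub_add_cancel]

theorem qrefl_lmul_unit {u : ℍ[ℝ]} (hu : star u * u = 1) (r x : HV) : qrefl (lmul u r) x = qrefl r x := by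
  funext t
  simp only [qrefl, lmul, qip_lmul_right, smul_mul_assoc, mul_assoc]
  rw [← mul_assoc (star u), hu, one_mul]

theorem qrefl_map (G : Iso3) (r x : HV) : G.F (qrefl r x) = qrefl (G.F r) (G.F x) := by
  have hneg : ∀ y, G.F (-y) = -G.F y := fun y => by
    have h1 : ∀ z : HV, lmul (-1) z = -z := fun z => funext fun _ => neg_one_mul _
    rw [← h1, G.lin, h1]
  rw [qrefl_eq, qrefl_eq, G.add, hneg, G.lin, G.iso]

end CfsgLib.Sporadic.Icosian
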