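import Cfsg.Agent.Lib.Sporadic.Icosian.Minimal
import Cfsg.Agent.Lib.Sporadic.Icosian.DataPerm
import Cfsg.Agent.Lib.SmallGroups.HallJanko

/-!
# Six reflections acting on the lines, compared with the group on one hundred points
-/

set_option autoImplicit false
set_option maxRecDepth 100000

namespace CfsgLib.Sporadic.Icosian

open Quaternion Cfsg.Spor

/-- A reflection in coordinates: the image. -/
def reflV (r v : V3) : V3 :=
  let c := Q8.half (Q8.half (V3.ip v r))
  ⟨v.x.sub (Q8.qmul c r.x), v.y.sub (Q8.qmul c r.y), v.z.sub (Q8.qmul c r.z)⟩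

/-- The divisions in the formula are exact. -/
def reflExact (r v : V3) : Bool :=
  let c := Q8.half (Q8.half (V3.ip v r))
  (V3.ip v r == Q8.smul 4 c) && (Q8.raw c r.x == Q8.smul 2 (Q8.qmul c r.x)) &&
    (Q8.raw c r.y == Q8.smul 2 (Q8.qmul c r.y)) && (Q8.raw c r.z == Q8.smul 2 (Q8.qmul c r.z))

theorem refl_spec {r v : V3} (h : reflExact r v = true) : qrefl r.toV v.toV = (reflV r v).toV := by
  simp only [reflExact, Bool.and_eq_true, beq_iff_eq] at h
  obtain ⟨⟨⟨h0, h1⟩, h2⟩, h3⟩ := h
  have hc : (1 / 2 : ℝ) • qip v.toV r.toV = Q8.toH (Q8.half (Q8.half (V3.ip v r))) := by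
    rw [V3.qip_toV]
    conv_lhs => rw [h0, Q8.toH_smul, smul_smul, smul_smul]
    norm_num
  funext t
  simp only [qrefl, hc]
  fin_cases t <;> simp [V3.toV, reflV, Q8.toH_sub, Q8.mul_of_raw h1, Q8.mul_of_raw h2, Q8.mul_of_raw h3]

/-- The image of a line under one of the six reflections, with the unit. -/
def actAt (j i : ℕ) : ℕ × ℕ := (Data.acts.getD j []).getD i (0, 0)

/-- The coefficient of a reflection on a line. -/
def coefAt (j i : ℕ) : ℕ := (Data.coefs.getD j []).getD i 0

/-- The equation of one coordinate of an image. -/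
def coordOK (c u : ℕ) (r v w : Q8) : Bool :=
  (Q8.raw (Q8.dec c) r).add (Q8.raw (Q8.dec u) w) == Q8.smul 2 v

/-- The check of one image. -/
def imgOK : ℕ × ℕ × ℕ → ℕ × ℕ × ℕ → ℕ → ℕ × ℕ → Bool
  | (a, b, d), (a', b', d'), c, (t, u) =>
    match Data.repsN[t]? with
    | some (e, f, g) =>
        (V3.ip ⟨Q8.dec a', Q8.dec b', Q8.dec d'⟩ ⟨Q8.dec a, Q8.dec b, Q8.dec d⟩ == Q8.smul 4 (Q8.dec c)) &&
          Data.unitsN.contains u && coordOK c u (Q8.dec a) (Q8.dec a') (Q8.dec e) &&
          coordOK c u (Q8.dec b) (Q8.dec b') (Q8.dec f) && coordOK c u (Q8.dec d) (Q8.dec d') (Q8.dec g)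
    | none => false

/-- The check of one image of a line. -/
def actOK (j i : ℕ) : Bool :=
  match Data.repsN[j]?, Data.repsN[i]?, (Data.coefs.getD j [])[i]?, (Data.acts.getD j [])[i]? with
  | some rs, some vs, some c, some p => imgOK rs vs c p
  | _, _, _, _ => false

theorem act_ok : ((List.range 6).all fun j => (List.range 315).all fun i => actOK j i) = true := by decide +kernel

theorem basis_refl_ok : ((List.range 6).all fun j => [b1, b2, b3].all fun v =>
    reflExact (repAt j) v && V3.lat (reflV (repAt j) v)) = true := by decide +kernel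

theorem tree_ok : ((List.range 309).all fun k =>
    let p := Data.par.getD k (0, 0)
    decide (p.1 < 6) && decide (p.2 < k + 6) && ((actAt p.1 p.2).1 == k + 6)) = true := by decide +kernel

open CfsgLib.SmallGroups

/-- The packed involution of a line. -/
def involN (i : ℕ) : ℕ × ℕ := (Data.invol.getD i 0, Data.invol.getD i 0)

theorem invol_ok : ((List.range 315).all fun i => PermChain.ok 100 (involN i)) = true := by decide +kernel

theorem roots_ok : ((List.range 6).map involN == [HallJankoData.s0, HallJankoData.s1, HallJankoData.s2,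
    HallJankoData.s3, HallJankoData.s4, HallJankoData.s5]) = true := by decide +kernel

/-- Pointwise test of a conjugation. -/
def conjSame (s t : ℕ) (k : ℕ) : Bool :=
  match Data.invol[k]? with
  | some w => (List.range 100).all fun x => PermChain.get s (PermChain.get t (PermChain.get s x)) == PermChain.get w x
  | none => false

/-- Conjugation test for one line. -/
def conjOK (j i : ℕ) : Bool :=
  match Data.invol[j]?, Data.invol[i]?, (Data.acts.getD j [])[i]? with
  | some s, some t, some p => conjSame s t p.1
  | _, _, _ => false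

theorem conj_ok : ((List.range 6).all fun j => (List.range 315).all fun i => conjOK j i) = true := by decide +kernel

theorem invol_distinct : ((List.range 315).all fun i => (List.range i).all fun j =>
    !PermChain.same 100 (involN i).1 (involN j).1) = true := by decide +kernel

theorem unit_head_ok : (Data.headsN.all fun w => !(Q8.nrm (Q8.dec w) == (⟨4, 0⟩ : P2)) ||
    Data.unitsN.all fun u => Data.unitsN.contains (Q8.enc (Q8.qmul (Q8.dec u) (Q8.dec w))) &&
      (Q8.dec (Q8.enc (Q8.qmul (Q8.dec u) (Q8.dec w))) == Q8.qmul (Q8.dec u) (Q8.dec w))) = true := by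
  decide +kernel

end CfsgLib.Sporadic.Icosian
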