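import Cfsg.Agent.Lib.Sporadic.Icosian.MinimalChecks

/-!
# The minimal vectors
-/

set_option autoImplicit false
set_option maxRecDepth 100000

namespace CfsgLib.Sporadic.Icosian

open Quaternion Cfsg.Spor

/-- A minimal vector of the lattice, in coordinates. -/
def IsMin (v : V3) : Prop := V3.lat v = true ∧ V3.ip v v = Q8.smul 8 Q8.one

/-- The line with a given index. -/
def repAt (i : ℕ) : V3 :=
  let t := Data.repsN.getD i (0, 0, 0)
  ⟨Q8.dec t.1, Q8.dec t.2.1, Q8.dec t.2.2⟩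

namespace Minimal

open Q8 Short

theorem enc_zero : enc Q8.zero = zeroN := by decide

theorem inI_zero : inI Q8.zero = true := by decide

theorem nrm_sum {v : V3} (h : V3.ip v v = Q8.smul 8 Q8.one) : ((nrm v.x).add (nrm v.y)).add (nrm v.z) = top := by
  have := congrArg Q8.r h
  simp only [V3.ip, Q8.add, raw_conj_r] at this
  rw [this]; decide

theorem shorts {v : V3} (h : IsMin v) : IsShort v.x ∧ IsShort v.y ∧ IsShort v.z := by
  obtain ⟨hl, hi⟩ := h
  simp only [V3.lat, Bool.and_eq_true] at hl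
  obtain ⟨⟨⟨⟨⟨a, b⟩, c⟩, -⟩, -⟩, -⟩ := hl
  have := nrm_sum hi
  refine ⟨⟨a, _, pos_add (pos_nrm v.y) (pos_nrm v.z), ?_⟩, ⟨b, _, pos_add (pos_nrm v.x) (pos_nrm v.z), ?_⟩,
    ⟨c, _, pos_add (pos_nrm v.x) (pos_nrm v.y), ?_⟩⟩ <;>
    (rw [← this]; simp only [P2.add, P2.mk.injEq]; omega)

theorem nrm_bounds {x : Q8} (h : IsShort x) : 0 ≤ (nrm x).a ∧ (nrm x).a ≤ 16 ∧ -32 ≤ (nrm x).b ∧ (nrm x).b ≤ 32 := by
  obtain ⟨-, r, hr, e⟩ := h
  have h1 := tot_of_pos hr
  have h2 := tot_of_pos (pos_nrm x)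
  simp only [tot, Bool.and_eq_true, decide_eq_true_eq] at h1 h2
  simp only [P2.add, top, P2.mk.injEq] at e
  have a1 : 0 ≤ (nrm x).a := by nlinarith [h2.1, h2.2, sq_nonneg (nrm x).b]
  have a2 : 0 ≤ r.a := by nlinarith [h1.1, h1.2, sq_nonneg r.b]
  refine ⟨a1, by omega, ?_, ?_⟩ <;> nlinarith [h2.1, h2.2]

theorem entry_mem {x : Q8} (h : IsShort x) :
    entry (enc x) ∈ cls (key (conj hq) x) (key hq x) ∧ entry (enc x) =
      (enc x, (nrm x).a.toNat, ((nrm x).b + 64).toNat) := by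
  obtain ⟨h1, h2⟩ := mem_short h
  have := (List.all_eq_true.mp groups_ok) _ h1
  rw [h2, ← keyA_eq h.1, ← keyB_eq h.1] at this
  exact ⟨by simpa using this, by rw [entry, h2]⟩

theorem lat_facts {v : V3} (h : V3.lat v = true) :
    key (conj hq) v.y = key (conj hq) v.x ∧ key (conj hq) v.z = key (conj hq) v.x ∧
      key hq v.z = key hq v.x ^^^ key hq v.y := by
  simp only [V3.lat, Bool.and_eq_true] at h
  obtain ⟨⟨⟨⟨⟨a, b⟩, c⟩, h1⟩, h2⟩, h3⟩ := h
  have g1 : inI (conj hq) = true := hq_inI.2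
  have e1 := key_eq_of_sub g1 a b h1
  have e2 := key_eq_of_sub g1 b c h2
  refine ⟨e1.symm, e2.symm.trans e1.symm, ?_⟩
  have e3 := key_eq_zero h3
  rw [key_add hq_inI.1 (inI_add a b), key_add hq_inI.1 a] at e3
  exact (Nat.xor_eq_zero_iff.mp e3).symm

theorem head_mem {w : ℕ} (hw : w ∈ Data.headsN) {v : V3} (hv : IsMin v)
    (h : v.x = dec w ∨ (v.x = Q8.zero ∧ v.y = dec w) ∨ (v.x = Q8.zero ∧ v.y = Q8.zero ∧ v.z = dec w)) :
    ∃ t ∈ Data.repsN, v = ⟨dec t.1, dec t.2.1, dec t.2.2⟩ := by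
  obtain ⟨sx, sy, sz⟩ := shorts hv
  obtain ⟨hz, hz'⟩ := entry_mem sz
  obtain ⟨hy, hy'⟩ := entry_mem sy
  obtain ⟨k1, k2, k3⟩ := lat_facts hv.1
  have hn := nrm_sum hv.2
  simp only [P2.add, top, P2.mk.injEq] at hn
  obtain ⟨x1, x2, x3, x4⟩ := nrm_bounds sx
  obtain ⟨y1, y2, y3, y4⟩ := nrm_bounds sy
  obtain ⟨z1, z2, z3, z4⟩ := nrm_bounds sz
  rw [k2, k3] at hz; rw [k1] at hy
  obtain ⟨-, dx⟩ := mem_short sx
  obtain ⟨-, dy⟩ := mem_short sy
  obtain ⟨-, dz⟩ := mem_short sz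
  rcases h with hx | ⟨hx, hy0⟩ | ⟨hx, hy0, hz0⟩
  · have h1 := (List.all_eq_true.mp ((List.all_eq_true.mp ((List.all_eq_true.mp first_ok) w hw)) _
      (List.mem_range.mpr (key_lt hq v.y)))) _ (hx ▸ hy)
    simp only [entry, dy, ← hx, Bool.or_eq_true, decide_eq_true_eq] at h1
    rcases h1 with h1 | h1
    · exfalso; omega
    · simp only [compOK] at h1
      have h2 := (List.all_eq_true.mp h1) _ hz
      simp only [hz'] at h2
      rw [show ((nrm v.x).a.toNat + (nrm v.y).a.toNat + (nrm v.z).a.toNat == 16) = true from beq_iff_eq.mpr (by omega),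
        show (((nrm v.x).b + 64).toNat + ((nrm v.y).b + 64).toNat + ((nrm v.z).b + 64).toNat == 192) = true from
          beq_iff_eq.mpr (by omega)] at h2
      simp only [Bool.and_true, Bool.not_true, Bool.false_or, List.contains_iff_mem] at h2
      exact ⟨_, h2, by simp only [← hx, dy, dz]⟩
  · have h1 := (List.all_eq_true.mp second_ok) w hw
    have k0 : key (conj hq) v.x = 0 := by rw [hx]; decide
    simp only [entry, ← hy0, k1, k0, Bool.or_eq_true, compOK, beq_self_eq_true, Bool.not_true, Bool.false_eq_true,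
      false_or] at h1
    rw [k0, show key hq v.x = 0 by rw [hx]; decide, Nat.zero_xor] at hz
    have h2 := (List.all_eq_true.mp h1) _ hz
    simp only [hz'] at h2
    have hx0 : nrm v.x = ⟨0, 0⟩ := by rw [hx]; decide
    rw [hx0] at hn
    dsimp only at hn
    rw [show ((nrm v.y).a.toNat + (nrm v.z).a.toNat == 16) = true from beq_iff_eq.mpr (by omega),
      show (((nrm v.y).b + 64).toNat + 64 + ((nrm v.z).b + 64).toNat == 192) = true from
        beq_iff_eq.mpr (by omega)] at h2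
    simp only [Bool.and_true, Bool.not_true, Bool.false_or, List.contains_iff_mem] at h2
    exact ⟨_, h2, by simp only [zero_code, ← hx, ← hy0, dz]⟩
  · have h1 := (List.all_eq_true.mp third_ok) w hw
    have e : v = ⟨Q8.zero, Q8.zero, dec w⟩ := by cases v; simp_all
    have h5 : nrm (dec w) = top := by
      have := nrm_sum hv.2
      rw [e] at this
      rw [← this, show nrm Q8.zero = (⟨0, 0⟩ : P2) by decide]
      simp [P2.add]
    rw [← e, hv.1, h5] at h1
    simp only [beq_self_eq_true, Bool.and_true, Bool.not_true, Bool.false_or, List.contains_iff_mem] at h1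
    exact ⟨_, h1, by rw [e]; simp only [zero_code]⟩

end Minimal

end CfsgLib.Sporadic.Icosian

namespace CfsgLib.Sporadic.Icosian

open Quaternion Cfsg.Spor

/-- The unit with a given code. -/
noncomputable def unitH (u : ℕ) : ℍ[ℝ] := Q8.toH (Q8.dec u)

theorem unit_spec {u : ℕ} (hu : u ∈ Data.unitsN) : unitH u ∈ icosians ∧ star (unitH u) ∈ icosians ∧
    unitH u * star (unitH u) = 1 ∧ star (unitH u) * unitH u = 1 := by
  have h := (List.all_eq_true.mp Minimal.units_ok) u hu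
  simp only [Bool.and_eq_true, beq_iff_eq] at h
  obtain ⟨⟨h1, h2⟩, h3⟩ := h
  refine ⟨Q8.toH_mem.mpr h1, ?_, ?_, ?_⟩ <;> simp only [unitH, ← Q8.toH_conj]
  · exact Q8.toH_mem.mpr (Q8.inI_conj h1)
  · rw [Q8.mul_of_raw h2, Q8.toH_one]
  · rw [Q8.mul_of_raw h3, Q8.toH_one]

theorem rep_spec {i : ℕ} (hi : i < 315) : IsMin (repAt i) ∧
    ∃ w ∈ Data.headsN, (repAt i).x = Q8.dec w ∨ ((repAt i).x = Q8.zero ∧ (repAt i).y = Q8.dec w) ∨
      ((repAt i).x = Q8.zero ∧ (repAt i).y = Q8.zero ∧ (repAt i).z = Q8.dec w) := by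
  have hi' : i < Data.repsN.length := by rw [Minimal.reps_nodup.2]; exact hi
  have h := (List.all_eq_true.mp Minimal.reps_ok) _ (List.getElem_mem hi')
  simp only [Minimal.repOK, Bool.and_eq_true, Bool.or_eq_true, beq_iff_eq, List.contains_iff_mem] at h
  obtain ⟨⟨⟨⟨⟨h1, h2⟩, -⟩, -⟩, -⟩, h3⟩ := h
  simp only [repAt, List.getD_eq_getElem?_getD, List.getElem?_eq_getElem hi', Option.getD_some, IsMin]
  refine ⟨⟨h1, h2⟩, ?_⟩
  rcases h3 with h3 | ⟨e, h3 | ⟨e', h3⟩⟩
  · exact ⟨_, h3, Or.inl rfl⟩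
  · exact ⟨_, h3, Or.inr (Or.inl ⟨by rw [e, Short.zero_code], rfl⟩)⟩
  · exact ⟨_, h3, Or.inr (Or.inr ⟨by rw [e, Short.zero_code], by rw [e', Short.zero_code], rfl⟩)⟩

theorem isMin_iff {v : V3} : IsMin v ↔ V3.toV v ∈ icoLeech ∧ qip (V3.toV v) (V3.toV v) = 4 := by
  rw [IsMin, V3.mem_iff, V3.qip_eq_four]

theorem lmul_isometric {a : ℍ[ℝ]} (ha : a * star a = 1) {x : HV} (hx : qip x x = 4) :
    qip (lmul a x) (lmul a x) = 4 := by
  rw [qip_lmul_left, qip_lmul_right, hx, four_eq, smul_mul_assoc, one_mul, mul_smul_comm, ha]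

/-- Every minimal vector is a unit times a line. -/
theorem min_cases {x : HV} (hx : x ∈ icoLeech) (h4 : qip x x = 4) :
    ∃ u ∈ Data.unitsN, ∃ i < 315, x = lmul (unitH u) (repAt i).toV := by
  obtain ⟨v, hv, rfl⟩ := V3.exists_of_mem hx
  have hm : IsMin v := ⟨hv, (V3.qip_eq_four v).mp h4⟩
  obtain ⟨sx, sy, sz⟩ := Minimal.shorts hm
  have main : ∀ u ∈ Data.unitsN, ∀ w ∈ Data.headsN, ∀ c : Q8, Q8.raw (Q8.dec u) (Q8.dec w) = Q8.smul 2 c →
      (v.x = c ∨ (v.x = Q8.zero ∧ v.y = c) ∨ (v.x = Q8.zero ∧ v.y = Q8.zero ∧ v.z = c)) →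
      ∃ u ∈ Data.unitsN, ∃ i < 315, v.toV = lmul (unitH u) (repAt i).toV := by
    intro u hu w hw c hc hcase
    obtain ⟨hu1, hu2, hu3, hu4⟩ := unit_spec hu
    obtain ⟨v', hv', e⟩ := V3.exists_of_mem (icoLeech_lmul hu2 hx)
    have hm' : IsMin v' := isMin_iff.mpr ⟨e ▸ icoLeech_lmul hu2 hx,
      e ▸ lmul_isometric (by rw [star_star, hu4]) h4⟩
    have hcomp : ∀ t, V3.toV v' t = star (unitH u) * V3.toV v t := fun t => congrFun e t
    have c0 := hcomp 0; have c1 := hcomp 1; have c2 := hcomp 2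
    simp only [V3.toV, Matrix.cons_val_zero, Matrix.cons_val_one, Matrix.cons_val] at c0 c1 c2
    have hw' : star (unitH u) * Q8.toH c = Q8.toH (Q8.dec w) := by
      rw [← Q8.mul_of_raw hc, ← mul_assoc]; exact (congrArg (· * _) hu4).trans (one_mul _)
    have hz : ∀ {a b : Q8}, Q8.toH a = star (unitH u) * Q8.toH b → b = Q8.zero → a = Q8.zero := fun h hb =>
      Q8.toH_injective (by rw [h, hb, Q8.toH_zero, mul_zero])
    have hwc : ∀ {a b : Q8}, Q8.toH a = star (unitH u) * Q8.toH b → b = c → a = Q8.dec w := fun h hb =>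
      Q8.toH_injective (by rw [h, hb, hw'])
    obtain ⟨t, ht, e'⟩ := Minimal.head_mem hw hm' (by
      rcases hcase with a | ⟨a, b⟩ | ⟨a, b, d⟩
      · exact Or.inl (hwc c0 a)
      · exact Or.inr (Or.inl ⟨hz c0 a, hwc c1 b⟩)
      · exact Or.inr (Or.inr ⟨hz c0 a, hz c1 b, hwc c2 d⟩))
    obtain ⟨i, hi, rfl⟩ := List.mem_iff_getElem.mp ht
    refine ⟨u, hu, i, by rw [← Minimal.reps_nodup.2]; exact hi, ?_⟩
    have e2 : repAt i = v' := by
      rw [e']; simp only [repAt, List.getD_eq_getElem?_getD, List.getElem?_eq_getElem hi, Option.getD_some]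
    rw [e2, e, lmul_lmul, hu3, one_lmul]
  by_cases h0 : v.x = Q8.zero
  · by_cases h1 : v.y = Q8.zero
    · have h2 : v.z ≠ Q8.zero := fun h2 => by
        have := Minimal.nrm_sum hm.2
        rw [h0, h1, h2] at this
        exact absurd this (by decide)
      obtain ⟨u, hu, w, hw, h⟩ := Short.factor sz h2
      exact main u hu w hw _ h (Or.inr (Or.inr ⟨h0, h1, rfl⟩))
    · obtain ⟨u, hu, w, hw, h⟩ := Short.factor sy h1
      exact main u hu w hw _ h (Or.inr (Or.inl ⟨h0, rfl⟩))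
  · obtain ⟨u, hu, w, hw, h⟩ := Short.factor sx h0
    exact main u hu w hw _ h (Or.inl rfl)

theorem rep_lines {i j u u' : ℕ} (hi : i < 315) (hj : j < 315) (hu : u ∈ Data.unitsN) (hu' : u' ∈ Data.unitsN)
    (h : lmul (unitH u) (repAt i).toV = lmul (unitH u') (repAt j).toV) : u = u' ∧ i = j := by
  obtain ⟨a1, a2, a3, a4⟩ := unit_spec hu
  obtain ⟨b1, b2, b3, b4⟩ := unit_spec hu'
  have hne : ∀ w ∈ Data.headsN, Q8.dec w ≠ Q8.zero := fun w hw e => by
    have : (Data.headsN.all fun w => Q8.dec w != Q8.zero) = true := by decide +kernel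
    have := (List.all_eq_true.mp this) w hw
    simp [e] at this
  have hq : ∀ (a b : Q8) (w w' : ℕ), w ∈ Data.headsN → w' ∈ Data.headsN → a = Q8.dec w → b = Q8.dec w' →
      unitH u * Q8.toH a = unitH u' * Q8.toH b → u = u' := by
    rintro a b w w' hw hw' rfl rfl e
    have hs : ∀ w ∈ Data.headsN, Q8.inI (Q8.dec w) = true := fun w hw => by
      have : (Data.headsN.all fun w => Q8.inI (Q8.dec w)) = true := by decide +kernel
      exact (List.all_eq_true.mp this) w hw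
    refine (Short.prod_injective hu hu' hw hw' ?_).1
    rw [(Q8.raw_even (Q8.toH_mem.mp a1) (hs w hw)).2.2, (Q8.raw_even (Q8.toH_mem.mp b1) (hs w' hw')).2.2]
    exact e
  have h0 := congrFun h 0; have h1 := congrFun h 1; have h2 := congrFun h 2
  simp only [lmul, V3.toV, Matrix.cons_val_zero, Matrix.cons_val_one, Matrix.cons_val] at h0 h1 h2
  have zero_iff : ∀ {a b : Q8}, unitH u * Q8.toH a = unitH u' * Q8.toH b → (a = Q8.zero ↔ b = Q8.zero) := by
    intro a b e
    constructor <;> intro z <;> refine Q8.toH_injective ?_ <;> rw [Q8.toH_zero]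
    · calc Q8.toH b = star (unitH u') * (unitH u' * Q8.toH b) := by rw [← mul_assoc, b4, one_mul]
        _ = 0 := by rw [← e, z, Q8.toH_zero, mul_zero, mul_zero]
    · calc Q8.toH a = star (unitH u) * (unitH u * Q8.toH a) := by rw [← mul_assoc, a4, one_mul]
        _ = 0 := by rw [e, z, Q8.toH_zero, mul_zero, mul_zero]
  have huu : u = u' := by
    obtain ⟨-, w, hw, ci⟩ := rep_spec hi
    obtain ⟨-, w', hw', cj⟩ := rep_spec hj
    rcases ci with a | ⟨a, b⟩ | ⟨a, b, c⟩ <;> rcases cj with a' | ⟨a', b'⟩ | ⟨a', b', c'⟩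
    · exact hq _ _ w w' hw hw' a a' h0
    · exact absurd (a ▸ (zero_iff h0).mpr a') (hne w hw)
    · exact absurd (a ▸ (zero_iff h0).mpr a') (hne w hw)
    · exact absurd (a' ▸ (zero_iff h0).mp a) (hne w' hw')
    · exact hq _ _ w w' hw hw' b b' h1
    · exact absurd (b ▸ (zero_iff h1).mpr b') (hne w hw)
    · exact absurd (a' ▸ (zero_iff h0).mp a) (hne w' hw')
    · exact absurd (b' ▸ (zero_iff h1).mp b) (hne w' hw')
    · exact hq _ _ w w' hw hw' c c' h2
  subst huu
  refine ⟨rfl, ?_⟩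
  have e : (repAt i).toV = (repAt j).toV := by
    have := congrArg (lmul (star (unitH u))) h
    rwa [lmul_lmul, lmul_lmul, a4, one_lmul, one_lmul] at this
  have e' := V3.toV_injective e
  have key : ∀ (n : ℕ) (hn : n < Data.repsN.length),
      (Q8.enc (repAt n).x, Q8.enc (repAt n).y, Q8.enc (repAt n).z) = Data.repsN[n] := fun n hn => by
    have h := (List.all_eq_true.mp Minimal.reps_ok) _ (List.getElem_mem hn)
    simp only [Minimal.repOK, Bool.and_eq_true, beq_iff_eq] at h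
    simp only [repAt, List.getD_eq_getElem?_getD, List.getElem?_eq_getElem hn, Option.getD_some,
      h.1.1.1.2, h.1.1.2, h.1.2, Prod.mk.eta]
  have hi' : i < Data.repsN.length := by rw [Minimal.reps_nodup.2]; exact hi
  have hj' : j < Data.repsN.length := by rw [Minimal.reps_nodup.2]; exact hj
  exact (List.Nodup.getElem_inj_iff Minimal.reps_nodup.1 (hi := hi') (hj := hj')).mp
    ((key i hi').symm.trans ((by rw [e'] : _ = _).trans (key j hj')))

/-- The vectors of minimal norm. -/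
def minVectors : Set HV := {r | r ∈ icoLeech ∧ qip r r = 4}

theorem rep_min {i : ℕ} (hi : i < 315) : (repAt i).toV ∈ minVectors := isMin_iff.mp (rep_spec hi).1

theorem minVectors_eq : minVectors = (fun p : ℕ × ℕ => lmul (unitH p.1) (repAt p.2).toV) ''
    ↑(Data.unitsN.toFinset ×ˢ Finset.range 315) := by
  ext x
  simp only [minVectors, Set.mem_ofPred_eq, Set.mem_image, Finset.coe_product, Set.mem_prod, Finset.mem_coe,
    List.mem_toFinset, Finset.mem_range, Prod.exists]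
  constructor
  · rintro ⟨h1, h2⟩
    obtain ⟨u, hu, i, hi, rfl⟩ := min_cases h1 h2
    exact ⟨u, i, ⟨hu, hi⟩, rfl⟩
  · rintro ⟨u, i, ⟨hu, hi⟩, rfl⟩
    exact ⟨icoLeech_lmul (unit_spec hu).1 (rep_min hi).1, lmul_isometric (unit_spec hu).2.2.1 (rep_min hi).2⟩

theorem card_minVectors : minVectors.ncard = 37800 := by
  rw [minVectors_eq, Set.InjOn.ncard_image, Set.ncard_coe_finset, Finset.card_product, Finset.card_range,
    List.toFinset_card_of_nodup Minimal.units_nodup, Short.nz_length.2.2.1]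
  rintro ⟨u, i⟩ h ⟨u', j⟩ h' e
  simp only [Finset.coe_product, Set.mem_prod, Finset.mem_coe, List.mem_toFinset, Finset.mem_range] at h h'
  obtain ⟨rfl, rfl⟩ := rep_lines h.2 h'.2 h.1 h'.1 e
  rfl

end CfsgLib.Sporadic.Icosian
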