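import Cfsg.Agent.Lib.Sporadic.Icosian.Short

/-!
# Kernel checks on the tables of lines
-/

set_option autoImplicit false
set_option maxRecDepth 100000

namespace CfsgLib.Sporadic.Icosian

open Quaternion Cfsg.Spor

namespace Minimal

open Q8 Short

/-- The test of one representative. -/
def repOK (t : ℕ × ℕ × ℕ) : Bool :=
  V3.lat ⟨dec t.1, dec t.2.1, dec t.2.2⟩ &&
    (V3.ip ⟨dec t.1, dec t.2.1, dec t.2.2⟩ ⟨dec t.1, dec t.2.1, dec t.2.2⟩ == Q8.smul 8 Q8.one) &&
    (enc (dec t.1) == t.1) && (enc (dec t.2.1) == t.2.1) && (enc (dec t.2.2) == t.2.2) &&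
    (Data.headsN.contains t.1 ||
      (t.1 == zeroN && (Data.headsN.contains t.2.1 || (t.2.1 == zeroN && Data.headsN.contains t.2.2))))

theorem reps_ok : (Data.repsN.all repOK) = true := by decide +kernel

theorem reps_nodup : Data.repsN.Nodup ∧ Data.repsN.length = 315 := by decide +kernel

theorem units_ok : (Data.unitsN.all fun u => inI (dec u) &&
    (raw (dec u) (conj (dec u)) == Q8.smul 2 Q8.one) && (raw (conj (dec u)) (dec u) == Q8.smul 2 Q8.one)) = true := by
  decide +kernel

theorem units_nodup : Data.unitsN.Nodup := by decide +kernel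

/-- A class of entries. -/
def cls (kh kb : ℕ) : List (ℕ × ℕ × ℕ) := (Data.groups.getD kh []).getD kb []

/-- The entry of a code. -/
def entry (s : ℕ) : ℕ × ℕ × ℕ := (s, (nrm (dec s)).a.toNat, ((nrm (dec s)).b + 64).toNat)

theorem groups_ok : (Data.shortN.all fun s =>
    (cls (keyA (dec s)) (keyB (dec s))).contains (entry s)) = true := by decide +kernel

/-- All completions of two coordinates are listed. -/
def compOK (xc yc : ℕ) (a b kh kb : ℕ) : Bool :=
  (cls kh kb).all fun z => !((a + z.2.1 == 16) && (b + z.2.2 == 192)) || Data.repsN.contains (xc, yc, z.1)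

theorem first_ok : (Data.headsN.all fun x =>
    let e := entry x
    let kh := key (conj hq) (dec x)
    let kx := key hq (dec x)
    (List.range 16).all fun ky => (cls kh ky).all fun y =>
      decide (16 < e.2.1 + y.2.1) || compOK x y.1 (e.2.1 + y.2.1) (e.2.2 + y.2.2) kh (kx ^^^ ky)) = true := by
  decide +kernel

theorem second_ok : (Data.headsN.all fun y =>
    let e := entry y
    !(key (conj hq) (dec y) == 0) ||
      compOK zeroN y e.2.1 (e.2.2 + 64) 0 (key hq (dec y))) = true := by decide +kernel

theorem third_ok : (Data.headsN.all fun z =>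
    !(V3.lat ⟨Q8.zero, Q8.zero, dec z⟩ && (nrm (dec z) == top)) || Data.repsN.contains (zeroN, zeroN, z)) = true := by
  decide +kernel

theorem heads_short : (Data.headsN.all fun w => Data.shortN.contains w) = true := by decide +kernel

end Minimal

end CfsgLib.Sporadic.Icosian
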