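import Cfsg.Prelude.Def_Spor_J2

/-!
# Icosians by integer coordinates

A quaternion with coordinates in the ring generated by the golden number, divided by two, is
stored by eight integers.
-/

set_option autoImplicit false

namespace CfsgLib.Sporadic.Icosian

open Quaternion Cfsg.Spor

/-- The number `(a + b tau) / 2` as the pair `(a, b)`. -/
structure P2 where
  a : ℤ
  b : ℤ
deriving DecidableEq

/-- A quaternion with four such coordinates. -/
structure Q8 where
  r : P2
  i : P2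
  j : P2
  k : P2
deriving DecidableEq

namespace P2

/-- Sum. -/
def add (x y : P2) : P2 := ⟨x.a + y.a, x.b + y.b⟩
/-- Opposite. -/
def neg (x : P2) : P2 := ⟨-x.a, -x.b⟩
/-- Integer multiple. -/
def smul (n : ℤ) (x : P2) : P2 := ⟨n * x.a, n * x.b⟩
/-- The product of the numerators. -/
def mul (x y : P2) : P2 := ⟨x.a * y.a + x.b * y.b, x.a * y.b + x.b * y.a + x.b * y.b⟩
/-- The real number. -/
noncomputable def toR (x : P2) : ℝ := ((x.a : ℝ) + (x.b : ℝ) * tau) / 2

theorem tau_sq : tau ^ 2 = tau + 1 := by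
  have h : Real.sqrt 5 ^ 2 = 5 := Real.sq_sqrt (by norm_num)
  rw [tau]; linear_combination (1 / 4 : ℝ) * h

theorem toR_add (x y : P2) : toR (add x y) = toR x + toR y := by
  simp only [toR, add, Int.cast_add]; ring

theorem toR_neg (x : P2) : toR (neg x) = -toR x := by
  simp only [toR, neg, Int.cast_neg]; ring

theorem toR_smul (n : ℤ) (x : P2) : toR (smul n x) = (n : ℝ) * toR x := by
  simp only [toR, smul, Int.cast_mul]; ring

theorem toR_mul (x y : P2) : toR (mul x y) = 2 * (toR x * toR y) := by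
  simp only [toR, mul, Int.cast_add, Int.cast_mul]
  linear_combination (-((x.b : ℝ) * y.b) / 2) * tau_sq

theorem irrational_sqrt_five : Irrational (Real.sqrt 5) :=
  Nat.Prime.irrational_sqrt (p := 5) (by norm_num)

theorem toR_injective : Function.Injective toR := by
  rintro ⟨a, b⟩ ⟨c, d⟩ h
  simp only [toR, tau] at h
  by_cases hbd : b = d
  · subst hbd
    have : (a : ℝ) = c := by linarith
    simp [Int.cast_inj.mp this]
  · exfalso
    have hne : ((b : ℝ) - d) ≠ 0 := sub_ne_zero.mpr (by exact_mod_cast hbd)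
    refine irrational_sqrt_five ⟨((2 * (c - a) - (b - d) : ℤ) : ℚ) / ((b - d : ℤ) : ℚ), ?_⟩
    push_cast
    rw [div_eq_iff hne]
    linarith

end P2

namespace Q8

/-- Sum. -/
def add (x y : Q8) : Q8 := ⟨x.r.add y.r, x.i.add y.i, x.j.add y.j, x.k.add y.k⟩
/-- Opposite. -/
def neg (x : Q8) : Q8 := ⟨x.r.neg, x.i.neg, x.j.neg, x.k.neg⟩
/-- Integer multiple. -/
def smul (n : ℤ) (x : Q8) : Q8 := ⟨x.r.smul n, x.i.smul n, x.j.smul n, x.k.smul n⟩
/-- Difference. -/
def sub (x y : Q8) : Q8 := x.add y.neg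
/-- Conjugate. -/
def conj (x : Q8) : Q8 := ⟨x.r, x.i.neg, x.j.neg, x.k.neg⟩
/-- Zero. -/
def zero : Q8 := ⟨⟨0, 0⟩, ⟨0, 0⟩, ⟨0, 0⟩, ⟨0, 0⟩⟩
/-- One. -/
def one : Q8 := ⟨⟨2, 0⟩, ⟨0, 0⟩, ⟨0, 0⟩, ⟨0, 0⟩⟩
/-- The product of numerators. -/
def raw (x y : Q8) : Q8 :=
  ⟨((x.r.mul y.r).add (x.i.mul y.i).neg).add ((x.j.mul y.j).neg.add (x.k.mul y.k).neg),
   ((x.r.mul y.i).add (x.i.mul y.r)).add ((x.j.mul y.k).add (x.k.mul y.j).neg),
   ((x.r.mul y.j).add (x.i.mul y.k).neg).add ((x.j.mul y.r).add (x.k.mul y.i)),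
   ((x.r.mul y.k).add (x.i.mul y.j)).add ((x.j.mul y.i).neg.add (x.k.mul y.r))⟩
/-- The quaternion. -/
noncomputable def toH (x : Q8) : ℍ[ℝ] := ⟨x.r.toR, x.i.toR, x.j.toR, x.k.toR⟩

@[simp] theorem toH_re (x : Q8) : (toH x).re = x.r.toR := rfl
@[simp] theorem toH_imI (x : Q8) : (toH x).imI = x.i.toR := rfl
@[simp] theorem toH_imJ (x : Q8) : (toH x).imJ = x.j.toR := rfl
@[simp] theorem toH_imK (x : Q8) : (toH x).imK = x.k.toR := rfl

theorem toH_add (x y : Q8) : toH (add x y) = toH x + toH y := by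
  ext <;> simp [add, P2.toR_add]

theorem toH_neg (x : Q8) : toH (neg x) = -toH x := by
  ext <;> simp [neg, P2.toR_neg]

theorem toH_sub (x y : Q8) : toH (sub x y) = toH x - toH y := by
  rw [sub, toH_add, toH_neg, sub_eq_add_neg]

theorem toH_smul (n : ℤ) (x : Q8) : toH (smul n x) = (n : ℝ) • toH x := by
  ext <;> simp [smul, P2.toR_smul]

theorem toH_zero : toH zero = 0 := by
  ext <;> simp [zero, P2.toR]

theorem toH_one : toH one = 1 := by
  ext <;> simp [one, P2.toR]

theorem toH_conj (x : Q8) : toH (conj x) = star (toH x) := by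
  ext <;> simp [conj, P2.toR_neg]

theorem toH_raw (x y : Q8) : toH (raw x y) = (2 : ℝ) • (toH x * toH y) := by
  ext <;>
    simp only [toH_re, toH_imI, toH_imJ, toH_imK, raw, P2.toR_add, P2.toR_neg, P2.toR_mul, QuaternionAlgebra.re_smul,
      QuaternionAlgebra.imI_smul, QuaternionAlgebra.imJ_smul, QuaternionAlgebra.imK_smul,
      Quaternion.re_smul, Quaternion.imI_smul, Quaternion.imJ_smul, Quaternion.imK_smul,
      Quaternion.re_mul, Quaternion.imI_mul, Quaternion.imJ_mul, Quaternion.imK_mul, smul_eq_mul] <;>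
    ring

theorem toH_injective : Function.Injective toH := by
  rintro ⟨a, b, c, d⟩ ⟨a', b', c', d'⟩ h
  have h1 := congrArg QuaternionAlgebra.re h
  have h2 := congrArg QuaternionAlgebra.imI h
  have h3 := congrArg QuaternionAlgebra.imJ h
  have h4 := congrArg QuaternionAlgebra.imK h
  simp only [toH] at h1 h2 h3 h4
  rw [P2.toR_injective h1, P2.toR_injective h2, P2.toR_injective h3, P2.toR_injective h4]

theorem mul_of_raw {x y z : Q8} (h : raw x y = smul 2 z) : toH x * toH y = toH z := by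
  have := congrArg toH h
  rw [toH_raw, toH_smul] at this
  exact smul_right_injective ℍ[ℝ] (by norm_num : (2 : ℝ) ≠ 0) (by exact_mod_cast this)

theorem raw_of_mul {x y z : Q8} (h : toH x * toH y = toH z) : raw x y = smul 2 z :=
  toH_injective (by rw [toH_raw, toH_smul, h]; norm_num)

theorem raw_add_left (x y z : Q8) : raw (add x y) z = add (raw x z) (raw y z) :=
  toH_injective (by simp [toH_raw, toH_add, add_mul])

/-- The membership test for the icosian ring: four parities. -/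
def inI (x : Q8) : Bool :=
  ((x.j.a - (x.r.b + x.i.a + x.i.b)) % 2 == 0) && ((x.j.b - (x.r.a + x.r.b + x.i.a)) % 2 == 0) &&
    ((x.k.a - (x.r.a + x.r.b + x.i.b)) % 2 == 0) && ((x.k.b - (x.r.a + x.i.a + x.i.b)) % 2 == 0)

theorem inI_iff {x : Q8} : inI x = true ↔
    (x.j.a - (x.r.b + x.i.a + x.i.b)) % 2 = 0 ∧ (x.j.b - (x.r.a + x.r.b + x.i.a)) % 2 = 0 ∧
    (x.k.a - (x.r.a + x.r.b + x.i.b)) % 2 = 0 ∧ (x.k.b - (x.r.a + x.i.a + x.i.b)) % 2 = 0 := by
  simp [inI, and_assoc]

theorem inI_add {x y : Q8} (hx : inI x = true) (hy : inI y = true) : inI (add x y) = true := by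
  rw [inI_iff] at *; simp only [add, P2.add]; omega

theorem inI_neg {x : Q8} (hx : inI x = true) : inI (neg x) = true := by
  rw [inI_iff] at *; simp only [neg, P2.neg]; omega

theorem inI_sub {x y : Q8} (hx : inI x = true) (hy : inI y = true) : inI (sub x y) = true :=
  inI_add hx (inI_neg hy)

theorem inI_conj {x : Q8} (hx : inI x = true) : inI (conj x) = true := by
  rw [inI_iff] at *; simp only [conj, P2.neg]; omega

theorem inI_smul {x : Q8} (n : ℤ) (hx : inI x = true) : inI (smul n x) = true := by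
  rw [inI_iff] at *; simp only [smul, P2.smul]
  obtain ⟨h1, h2, h3, h4⟩ := hx
  refine ⟨?_, ?_, ?_, ?_⟩ <;>
    first
      | (rw [show n * x.j.a - (n * x.r.b + n * x.i.a + n * x.i.b) = n * (x.j.a - (x.r.b + x.i.a + x.i.b)) by ring,
          Int.mul_emod, h1]; simp)
      | (rw [show n * x.j.b - (n * x.r.a + n * x.r.b + n * x.i.a) = n * (x.j.b - (x.r.a + x.r.b + x.i.a)) by ring,
          Int.mul_emod, h2]; simp)
      | (rw [show n * x.k.a - (n * x.r.a + n * x.r.b + n * x.i.b) = n * (x.k.a - (x.r.a + x.r.b + x.i.b)) by ring,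
          Int.mul_emod, h3]; simp)
      | (rw [show n * x.k.b - (n * x.r.a + n * x.i.a + n * x.i.b) = n * (x.k.b - (x.r.a + x.i.a + x.i.b)) by ring,
          Int.mul_emod, h4]; simp)

end Q8

end CfsgLib.Sporadic.Icosian
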