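import Cfsg.Agent.Lib.Sporadic.Icosian.Codes
import Cfsg.Agent.Lib.Sporadic.Icosian.DataShort
import Cfsg.Agent.Lib.Sporadic.Icosian.DataLines

/-!
# The short icosians are the products of units and heads
-/

set_option autoImplicit false
set_option maxRecDepth 100000

namespace CfsgLib.Sporadic.Icosian.Short

open Q8

/-- The target. -/
def top : P2 := ⟨16, 0⟩

/-- A vector with norm not above the target. -/
def okN (n : P2) : Bool := tot (top.add n.neg)

/-- The range of coordinates. -/
def rng : List ℤ := [-4, -3, -2, -1, 0, 1, 2, 3, 4]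

/-- The half of a code. -/
def decH (n : ℕ) : P2 × P2 := (decP (n / 256 % 256), decP (n % 256))

/-- The norm of a half. -/
def nH (h : P2 × P2) : P2 := (sqP h.1).add (sqP h.2)

/-- Parity read as a digit. -/
def par (a : ℤ) : ℕ := (a % 2).toNat

/-- The parities of the second half. -/
def k2 (h : P2 × P2) : ℕ := par h.1.a * 8 + par h.1.b * 4 + par h.2.a * 2 + par h.2.b

/-- The parities demanded by the first half. -/
def k1 (h : P2 × P2) : ℕ :=
  par (h.1.b + h.2.a + h.2.b) * 8 + par (h.1.a + h.1.b + h.2.a) * 4 +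
    par (h.1.a + h.1.b + h.2.b) * 2 + par (h.1.a + h.2.a + h.2.b)

theorem k2_eq_k1 {x : Q8} (h : inI x = true) : k2 (x.j, x.k) = k1 (x.r, x.i) := by
  rw [inI_iff] at h; obtain ⟨h1, h2, h3, h4⟩ := h
  have e : ∀ u v : ℤ, (u - v) % 2 = 0 → par u = par v := fun u v huv => by simp only [par]; omega
  simp only [k1, k2]
  rw [e _ _ h1, e _ _ h2, e _ _ h3, e _ _ h4]

theorem pairs_ok : (rng.all fun a => rng.all fun b =>
    !okN (sqP ⟨a, b⟩) || Data.pairsN.contains (encP ⟨a, b⟩)) = true := by decide +kernel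

theorem halves_ok : (Data.pairsN.all fun p => Data.pairsN.all fun q =>
    !okN (nH (decP p, decP q)) || Data.halvesN.contains (p * 256 + q)) = true := by decide +kernel

theorem buckets_ok : (Data.halvesN.all fun h =>
    (Data.buckets.getD (k2 (decH h)) []).contains h) = true := by decide +kernel

/-- The enumeration. -/
def enum : List ℕ := Data.halvesN.flatMap fun h =>
  ((Data.buckets.getD (k1 (decH h)) []).filter fun g => okN ((nH (decH h)).add (nH (decH g)))).map
    fun g => h * 65536 + g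

theorem enum_eq : (enum == Data.shortN) = true := by decide +kernel

theorem okN_of_pos {n n' : P2} (h : n.add n' = top) (hp : Pos n') : okN n = true := by
  rw [okN, ← h]
  have : (n.add n').add n.neg = n' := by
    obtain ⟨a, b⟩ := n; obtain ⟨c, d⟩ := n'; simp only [P2.add, P2.neg, P2.mk.injEq]; omega
  rw [this]; exact tot_of_pos hp

theorem sqP_bound {p q : P2} (h : (sqP p).add q = top) (hq : Pos q) : SmallP p := by
  have ht := tot_of_pos hq
  simp only [tot, Bool.and_eq_true, decide_eq_true_eq] at ht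
  simp only [sqP, P2.mul, P2.add, top, P2.mk.injEq] at h
  obtain ⟨h1, h2⟩ := h
  have hqa : 0 ≤ q.a := by
    nlinarith [ht.1, ht.2, sq_nonneg q.b]
  have ha : p.a * p.a ≤ 16 := by nlinarith [mul_self_nonneg p.b]
  have hb : p.b * p.b ≤ 16 := by nlinarith [mul_self_nonneg p.a]
  refine ⟨⟨?_, ?_⟩, ?_, ?_⟩ <;> nlinarith

theorem mem_rng {a : ℤ} (h : -4 ≤ a ∧ a ≤ 4) : a ∈ rng := by
  obtain ⟨h1, h2⟩ := h; simp only [rng, List.mem_cons, List.not_mem_nil, or_false]; omega

theorem mem_pairs {p q : P2} (h : (sqP p).add q = top) (hq : Pos q) : encP p ∈ Data.pairsN ∧ SmallP p := by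
  have hs := sqP_bound h hq
  refine ⟨?_, hs⟩
  have h1 := (List.all_eq_true.mp ((List.all_eq_true.mp pairs_ok) p.a (mem_rng hs.1))) p.b (mem_rng hs.2)
  rw [show okN (sqP ⟨p.a, p.b⟩) = true from okN_of_pos h hq] at h1
  simpa using h1

theorem decH_code {p q : P2} (hp : SmallP p) (hq : SmallP q) : decH (encP p * 256 + encP q) = (p, q) := by
  have a := encP_lt hp; have b := encP_lt hq
  rw [decH, show (encP p * 256 + encP q) / 256 % 256 = encP p by omega,
    show (encP p * 256 + encP q) % 256 = encP q by omega, decP_encP hp, decP_encP hq]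

theorem mem_halves {p q r : P2} (h : ((sqP p).add (sqP q)).add r = top) (hr : Pos r) :
    encP p * 256 + encP q ∈ Data.halvesN ∧ SmallP p ∧ SmallP q := by
  have e1 : (sqP p).add ((sqP q).add r) = top := by
    rw [← h]; simp only [P2.add, P2.mk.injEq]; omega
  have e2 : (sqP q).add ((sqP p).add r) = top := by
    rw [← h]; simp only [P2.add, P2.mk.injEq]; omega
  obtain ⟨m1, s1⟩ := mem_pairs e1 (pos_add (pos_sqP q) hr)
  obtain ⟨m2, s2⟩ := mem_pairs e2 (pos_add (pos_sqP p) hr)
  refine ⟨?_, s1, s2⟩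
  have h1 := (List.all_eq_true.mp ((List.all_eq_true.mp halves_ok) _ m1)) _ m2
  rw [decP_encP s1, decP_encP s2, show okN (nH (p, q)) = true from okN_of_pos h hr] at h1
  simpa using h1

/-- An icosian whose norm is at most the target. -/
def IsShort (x : Q8) : Prop := inI x = true ∧ ∃ r, Pos r ∧ (nrm x).add r = top

theorem mem_short {x : Q8} (hx : IsShort x) : enc x ∈ Data.shortN ∧ dec (enc x) = x := by
  obtain ⟨hI, r, hr, h⟩ := hx
  have e1 : ((sqP x.r).add (sqP x.i)).add (((sqP x.j).add (sqP x.k)).add r) = top := by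
    rw [← h]; simp only [nrm, P2.add, P2.mk.injEq]; omega
  have e2 : ((sqP x.j).add (sqP x.k)).add (((sqP x.r).add (sqP x.i)).add r) = top := by
    rw [← h]; simp only [nrm, P2.add, P2.mk.injEq]; omega
  obtain ⟨m1, a, b⟩ := mem_halves e1 (pos_add (pos_add (pos_sqP _) (pos_sqP _)) hr)
  obtain ⟨m2, c, d⟩ := mem_halves e2 (pos_add (pos_add (pos_sqP _) (pos_sqP _)) hr)
  refine ⟨?_, dec_enc ⟨a, b, c, d⟩⟩
  rw [← eq_of_beq enum_eq, enum, List.mem_flatMap]
  refine ⟨_, m1, List.mem_map.mpr ⟨encP x.j * 256 + encP x.k, List.mem_filter.mpr ⟨?_, ?_⟩, ?_⟩⟩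
  · have h1 := (List.all_eq_true.mp buckets_ok) _ m2
    rw [decH_code c d, k2_eq_k1 hI] at h1
    rw [decH_code a b]
    simpa using h1
  · rw [decH_code a b, decH_code c d]
    exact okN_of_pos (n' := r) h hr
  · simp only [enc]; omega

/-- The code of zero. -/
def zeroN : ℕ := 2290649224

/-- Strictly increasing. -/
def incr : List ℕ → Bool
  | a :: b :: l => decide (a < b) && incr (b :: l)
  | _ => true

theorem incr_pairwise : ∀ {l : List ℕ}, incr l = true → l.Pairwise (· < ·)
  | [], _ => List.Pairwise.nil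
  | [a], _ => List.pairwise_singleton _ _
  | a :: b :: l, h => by
      simp only [incr, Bool.and_eq_true, decide_eq_true_eq] at h
      have := incr_pairwise h.2
      refine List.pairwise_cons.mpr ⟨fun c hc => ?_, this⟩
      rcases List.mem_cons.mp hc with rfl | hc
      exacts [h.1, h.1.trans ((List.pairwise_cons.mp this).1 c hc)]

/-- The nonzero short codes. -/
def nz : List ℕ := Data.shortN.filter fun s => !(s == zeroN)

theorem nz_incr : incr nz = true := by decide +kernel

theorem nz_length : nz.length = 6120 ∧ Data.factorN.length = 6120 ∧ Data.unitsN.length = 120 ∧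
    Data.headsN.length = 51 := by decide +kernel

theorem zero_code : dec zeroN = Q8.zero := by decide

/-- One factorisation is right. -/
def facOK (sf : ℕ × ℕ) : Bool :=
  match Data.unitsN[sf.2 / 64]?, Data.headsN[sf.2 % 64]? with
  | some u, some w => raw (dec u) (dec w) == Q8.smul 2 (dec sf.1) && enc (dec sf.1) == sf.1
  | _, _ => false

theorem factors_ok : ((nz.zip Data.factorN).all facOK) = true := by decide +kernel

/-- The product of a unit and a head, as a code. -/
def prodN (p : ℕ × ℕ) : ℕ := enc (qmul (dec p.1) (dec p.2))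

theorem half_smul (x : Q8) : Q8.half (Q8.smul 2 x) = x := by
  obtain ⟨⟨a, b⟩, ⟨c, d⟩, ⟨e, f⟩, ⟨g, h⟩⟩ := x
  simp [Q8.half, Q8.smul, P2.smul]

theorem fac_of_mem {s : ℕ} (hs : s ∈ nz) : ∃ u ∈ Data.unitsN, ∃ w ∈ Data.headsN,
    raw (dec u) (dec w) = Q8.smul 2 (dec s) ∧ prodN (u, w) = s := by
  obtain ⟨i, hi, rfl⟩ := List.mem_iff_getElem.mp hs
  have hi' : i < Data.factorN.length := by rw [nz_length.2.1]; rw [nz_length.1] at hi; exact hi
  have h := (List.all_eq_true.mp factors_ok) (nz[i], Data.factorN[i])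
    (List.mem_iff_getElem.mpr ⟨i, by simpa using ⟨hi, hi'⟩, List.getElem_zip⟩)
  simp only [facOK] at h
  split at h
  · rename_i u w hu hw
    simp only [Bool.and_eq_true, beq_iff_eq] at h
    refine ⟨u, List.mem_of_getElem? hu, w, List.mem_of_getElem? hw, h.1, ?_⟩
    show enc (qmul (dec u) (dec w)) = _
    rw [qmul, h.1, half_smul]
    exact h.2
  · exact absurd h (by simp)

theorem factor {x : Q8} (hx : IsShort x) (h0 : x ≠ Q8.zero) :
    ∃ u ∈ Data.unitsN, ∃ w ∈ Data.headsN, raw (dec u) (dec w) = Q8.smul 2 x := by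
  obtain ⟨h1, h2⟩ := mem_short hx
  obtain ⟨u, hu, w, hw, h3, -⟩ := fac_of_mem (s := enc x) (List.mem_filter.mpr ⟨h1, by
    simp only [Bool.not_eq_true', beq_eq_false_iff_ne]
    exact fun e => h0 (by rw [← h2, e, zero_code])⟩)
  exact ⟨u, hu, w, hw, h2 ▸ h3⟩

theorem prod_injective {u u' w w' : ℕ} (hu : u ∈ Data.unitsN) (hu' : u' ∈ Data.unitsN)
    (hw : w ∈ Data.headsN) (hw' : w' ∈ Data.headsN)
    (h : toH (qmul (dec u) (dec w)) = toH (qmul (dec u') (dec w'))) : u = u' ∧ w = w' := by
  have hc : (Data.unitsN.toFinset ×ˢ Data.headsN.toFinset).card ≤ 6120 := by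
    rw [Finset.card_product]
    have a := List.toFinset_card_le Data.unitsN
    have b := List.toFinset_card_le Data.headsN
    rw [nz_length.2.2.1] at a; rw [nz_length.2.2.2] at b
    exact (Nat.mul_le_mul a b).trans (by norm_num)
  have hn : nz.toFinset.card = 6120 := by
    rw [List.toFinset_card_of_nodup ((incr_pairwise nz_incr).imp fun h => Nat.ne_of_lt h), nz_length.1]
  have hs : nz.toFinset ⊆ (Data.unitsN.toFinset ×ˢ Data.headsN.toFinset).image prodN := by
    intro s hs
    obtain ⟨u, hu, w, hw, -, e⟩ := fac_of_mem (List.mem_toFinset.mp hs)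
    exact Finset.mem_image.mpr ⟨(u, w), by simp [hu, hw], e⟩
  have hle := Finset.card_le_card hs
  have hinj := Finset.injOn_of_card_image_eq (s := Data.unitsN.toFinset ×ˢ Data.headsN.toFinset) (f := prodN)
    (le_antisymm Finset.card_image_le (hc.trans (hn ▸ hle)))
  have := hinj (x₁ := (u, w)) (by simp [hu, hw]) (x₂ := (u', w')) (by simp [hu', hw']) (by
    simp only [prodN, toH_injective h])
  exact Prod.ext_iff.mp this

end CfsgLib.Sporadic.Icosian.Short
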