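import Cfsg.Agent.Lib.Sporadic.Icosian.Centralizer
import Cfsg.Agent.Lib.Sporadic.Icosian.TwoData
import Cfsg.Agent.Lib.FusionSystem.GroupSimpleLocal
import Cfsg.Agent.Lib.PGroup.Frattini
import Cfsg.Agent.Lib.Solvable.FrattiniFitting

/-!
# The 2-fusion of the Hall-Janko group
-/

set_option autoImplicit false
set_option maxRecDepth 100000

namespace CfsgLib.Sporadic.Icosian.TwoLocal

open Subgroup CfsgLib.SmallGroups CfsgLib.SmallGroups.PermChain
open CfsgLib.Sporadic.Icosian (J invol)
open CfsgLib.Fsys.GroupSimpleLocal (localCore)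

/-- The packed identity. -/
def idN : ℕ := pack (List.range 100)

theorem rep_idN : Rep idN (1 : Equiv.Perm (Fin 100)) := by
  have h : ((List.range 100).all fun i => get idN i == i) = true := by decide +kernel
  intro i
  simpa using List.all_eq_true.mp h i (List.mem_range.mpr i.isLt)

/-- All packed elements of a chain. -/
def elems : List Level → List ℕ
  | [] => [idN]
  | l :: rest => l.orb.flatMap fun e => (elems rest).map (comp 100 e.1)

theorem exists_elem : ∀ {L : List Level}, check 100 L = true → ∀ σ ∈ grp 100 L, ∃ p ∈ elems L, Rep p σ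
  | [], _, σ, hσ => by
      obtain rfl : σ = 1 := by simpa [grp, gensOf] using hσ
      exact ⟨_, List.mem_singleton_self _, rep_idN⟩
  | l :: rest, hc, σ, hσ => by
      obtain ⟨-, -, -, -, hfac, -, -⟩ := level_spec hc
      obtain ⟨e, he, τ, hτ, rfl⟩ := hfac σ hσ
      simp only [check, Bool.and_eq_true] at hc
      obtain ⟨q, hq, hr⟩ := exists_elem hc.2 τ hτ
      exact ⟨_, List.mem_flatMap.mpr ⟨e, he, List.mem_map.mpr ⟨q, hq, rfl⟩⟩,
        rep_comp (rep_fst ((levelOK_iff.mp hc.1).2.2.1 e he)) hr⟩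

theorem check_chain : check 100 TwoData.sChain = true ∧
    (TwoData.sChain.map fun l => l.orb.length).prod = 128 := by decide +kernel

/-- The Sylow subgroup as permutations. -/
abbrev S100 : Subgroup (Equiv.Perm (Fin 100)) := grp 100 TwoData.sChain

theorem gens_ok : ((gensOf TwoData.sChain).all fun e => ok 100 e &&
    sift 100 (HallJankoData.level1 :: HallJanko.chain₁) e.1 &&
    same 100 (comp 100 e.1 (involN 0).1) (comp 100 (involN 0).1 e.1)) = true := by decide +kernel

theorem gen_spec {σ : Equiv.Perm (Fin 100)} (hσ : σ ∈ S100) : σ ∈ J ∧ σ * invol 0 = invol 0 * σ := by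
  have hle : S100 ≤ J ⊓ centralizer {invol 0} := (closure_le _).mpr (by
    rintro _ ⟨e, he, rfl⟩
    have h := List.all_eq_true.mp gens_ok e he
    simp only [Bool.and_eq_true] at h
    exact ⟨mem_grp_of_sift _ _ _ HallJanko.check_chain (rep_fst h.1.1) h.1.2, mem_centralizer_singleton_iff.mpr
      (perm_eq h.2 (rep_comp (rep_fst h.1.1) (rep_fst (invol_okAt 0)))
        (rep_comp (rep_fst (invol_okAt 0)) (rep_fst h.1.1)))⟩)
  exact ⟨(hle hσ).1, mem_centralizer_singleton_iff.mp (hle hσ).2⟩

/-- The central involution. -/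
def z : J := ⟨invol 0, J_eq_closure ▸ subset_closure ⟨0, rfl⟩⟩

/-- A Sylow subgroup. -/
abbrev S0 : Subgroup J := S100.subgroupOf J

theorem card_S0 : Nat.card S0 = 128 :=
  (Nat.card_congr (subgroupOfEquivOfLe fun _ h => (gen_spec h).1).toEquiv).trans
    ((card_grp check_chain.1).trans check_chain.2)

theorem pgroup_S0 : IsPGroup 2 S0 := IsPGroup.of_card (n := 7) (by rw [card_S0]; norm_num)

theorem S0_le_Cen : S0 ≤ Centralizer.Cen := fun _ hx =>
  mem_centralizer_singleton_iff.mpr (Subtype.ext (gen_spec hx).2)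

theorem z_ok : sift 100 TwoData.sChain (involN 0).1 = true ∧ isId 100 (involN 0).1 = false := by decide +kernel

theorem z_mem : z ∈ S0 := mem_grp_of_sift _ _ _ check_chain.1 (rep_fst (invol_okAt 0)) z_ok.1

theorem z_ne : z ≠ 1 := fun h => by
  have h' : invol 0 = 1 := congrArg Subtype.val h
  have hr := rep_fst (invol_okAt 0)
  rw [show PermChain.toPerm 100 (involN ((0 : Ix) : ℕ)) = invol 0 from rfl, h'] at hr
  have : isId 100 (involN 0).1 = true := List.all_eq_true.mpr fun i hi => by
    have := hr ⟨i, List.mem_range.mp hi⟩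
    simpa using this
  rw [z_ok.2] at this
  exact Bool.false_ne_true this

theorem center_ok : ((elems TwoData.sChain).all fun p => isId 100 p || same 100 p (involN 0).1 ||
    (gensOf TwoData.sChain).any fun s => !same 100 (comp 100 p s.1) (comp 100 s.1 p)) = true := by decide +kernel

theorem center_S0 {x : J} (hx : x ∈ S0) (hc : ∀ y ∈ S0, x * y = y * x) : x = 1 ∨ x = z := by
  obtain ⟨p, hp, hr⟩ := exists_elem check_chain.1 (x : Equiv.Perm (Fin 100)) hx
  have h := List.all_eq_true.mp center_ok p hp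
  simp only [Bool.or_eq_true, List.any_eq_true, Bool.not_eq_true'] at h
  rcases h with (h | h) | ⟨s, hs, h⟩
  · exact Or.inl (Subtype.ext (perm_one h hr))
  · exact Or.inr (Subtype.ext (perm_eq h hr (rep_fst (invol_okAt 0))))
  · exfalso
    have hok : ok 100 s = true := by
      have := List.all_eq_true.mp gens_ok s hs
      simp only [Bool.and_eq_true] at this; exact this.1.1
    have hsm : toPerm 100 s ∈ S100 := subset_closure ⟨s, hs, rfl⟩
    have e : (x : Equiv.Perm (Fin 100)) * toPerm 100 s = toPerm 100 s * x :=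
      congrArg Subtype.val (hc ⟨toPerm 100 s, (gen_spec hsm).1⟩ hsm)
    have : same 100 (comp 100 p s.1) (comp 100 s.1 p) = true := List.all_eq_true.mpr fun i hi => by
      have a := rep_comp hr (rep_fst hok) ⟨i, List.mem_range.mp hi⟩
      have b := rep_comp (rep_fst hok) hr ⟨i, List.mem_range.mp hi⟩
      rw [e] at a
      exact beq_iff_eq.mpr (a.trans b.symm)
    rw [h] at this
    exact Bool.false_ne_true this

/-- A nontrivial subgroup normalised by `S0` inside `S0` contains the central involution. -/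
theorem z_mem_of_normalized {T : Subgroup J} (hT : T ≤ S0) (hne : T ≠ ⊥)
    (hn : ∀ n ∈ S0, ∀ t ∈ T, n * t * n⁻¹ ∈ T) : z ∈ T := by
  haveI := Fact.mk Nat.prime_two
  have hN : (T.subgroupOf S0).Normal := ⟨fun t ht n => hn _ n.2 _ ht⟩
  haveI : Nontrivial ↥(T.subgroupOf S0) := (Subgroup.nontrivial_iff_ne_bot _).mpr (by
    rw [Ne, subgroupOf_eq_bot]
    intro h
    exact hne (le_bot_iff.1 fun t ht => h.le_bot ⟨ht, hT ht⟩))
  haveI := hN
  haveI := pgroup_S0.isNilpotent
  obtain ⟨y, ⟨hy1, hy2⟩, hy⟩ := (Subgroup.bot_or_exists_ne_one (T.subgroupOf S0 ⊓ center S0)).resolve_left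
    (CfsgLib.Solvable.FrattiniFitting.inf_center_ne_bot (T.subgroupOf S0) ((Subgroup.nontrivial_iff_ne_bot _).mp inferInstance))
  rcases center_S0 y.2 (fun w hw => (congrArg Subtype.val (mem_center_iff.1 hy2 ⟨w, hw⟩)).symm) with h1 | h1
  · exact absurd (Subtype.ext h1) hy
  · have : (y : J) ∈ T := hy1
    rwa [h1] at this

/-- A word in witnessed elements. -/
def word (l : List ℕ) : ℕ := l.foldr (fun k p => comp 100 ((TwoData.wit.map fun w => w.1.1).getD k idN) p) idN

theorem wit_ok : (TwoData.wit.all fun w =>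
    ok 100 w.1 && ok 100 w.2.1 && ok 100 w.2.2.1 && ok 100 w.2.2.2 &&
    sift 100 TwoData.sChain w.1.1 &&
    (sift 100 (HallJankoData.level1 :: HallJanko.chain₁) w.2.1.1 &&
      sift 100 (HallJankoData.level1 :: HallJanko.chain₁) w.2.2.1.1 &&
      sift 100 (HallJankoData.level1 :: HallJanko.chain₁) w.2.2.2.1) &&
    sift 100 TwoData.sChain (comp 100 (comp 100 w.2.2.1.1 (involN 0).1) w.2.2.1.2) &&
    sift 100 TwoData.sChain (comp 100 (comp 100 w.2.2.2.1 (involN 0).1) w.2.2.2.2) &&
    same 100 w.1.1 (comp 100 (comp 100 w.2.1.1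
      (comp 100 (comp 100 (comp 100 w.2.2.1.1 (involN 0).1) w.2.2.1.2)
        (comp 100 (comp 100 w.2.2.2.1 (involN 0).1) w.2.2.2.2))) w.2.1.2)) = true := by decide +kernel

theorem words_ok : TwoData.words.length = (gensOf TwoData.sChain).length ∧
    (((gensOf TwoData.sChain).zip TwoData.words).all fun a => same 100 a.1.1 (word a.2)) = true := by decide +kernel

theorem sq_ok : (TwoData.wit.any fun w => !isId 100 (comp 100 w.1.1 w.1.1) &&
    !same 100 (comp 100 w.1.1 w.1.1) (involN 0).1) = true := by decide +kernel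

/-- Strong closure spreads from the central involution to the whole Sylow subgroup. -/
theorem le_of_strongly_closed {T : Subgroup J} (hT : T ≤ S0) (hne : T ≠ ⊥)
    (hcl : ∀ g x : J, x ∈ T → g * x * g⁻¹ ∈ S0 → g * x * g⁻¹ ∈ T) : S0 ≤ T := by
  have hz : z ∈ T := z_mem_of_normalized hT hne fun n hn t ht =>
    hcl n t ht (mul_mem (mul_mem hn (hT ht)) (inv_mem hn))
  set T' : Subgroup (Equiv.Perm (Fin 100)) := T.map J.subtype
  have hw : ∀ w ∈ TwoData.wit, ok 100 w.1 = true ∧ toPerm 100 w.1 ∈ T' := by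
    intro w hwm
    have h := List.all_eq_true.mp wit_ok w hwm
    simp only [Bool.and_eq_true] at h
    obtain ⟨⟨⟨⟨⟨⟨⟨⟨ox, og⟩, o1⟩, o2⟩, sx⟩, ⟨sg, s1⟩, s2⟩, c1⟩, c2⟩, he⟩ := h
    have inJ : ∀ {e : ℕ × ℕ}, ok 100 e = true → sift 100 (HallJankoData.level1 :: HallJanko.chain₁) e.1 = true →
        toPerm 100 e ∈ J := fun o s => mem_grp_of_sift _ _ _ HallJanko.check_chain (rep_fst o) s
    have conjZ : ∀ {e : ℕ × ℕ} (o : ok 100 e = true) (hj : toPerm 100 e ∈ J),
        sift 100 TwoData.sChain (comp 100 (comp 100 e.1 (involN 0).1) e.2) = true →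
        (⟨_, hj⟩ : J) * z * (⟨_, hj⟩ : J)⁻¹ ∈ T := fun o hj s => hcl _ z hz (mem_grp_of_sift _ _ _ check_chain.1
          (rep_comp (rep_comp (rep_fst o) (rep_fst (invol_okAt 0))) (rep_snd o)) s)
    have hg := inJ og sg; have h1 := inJ o1 s1; have h2 := inJ o2 s2
    have hq := mul_mem (conjZ o1 h1 c1) (conjZ o2 h2 c2)
    have hx : toPerm 100 w.1 = toPerm 100 w.2.1 *
        (toPerm 100 w.2.2.1 * invol 0 * (toPerm 100 w.2.2.1)⁻¹ *
          (toPerm 100 w.2.2.2 * invol 0 * (toPerm 100 w.2.2.2)⁻¹)) * (toPerm 100 w.2.1)⁻¹ :=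
      perm_eq he (rep_fst ox) (rep_comp (rep_comp (rep_fst og) (rep_comp
        (rep_comp (rep_comp (rep_fst o1) (rep_fst (invol_okAt 0))) (rep_snd o1))
        (rep_comp (rep_comp (rep_fst o2) (rep_fst (invol_okAt 0))) (rep_snd o2)))) (rep_snd og))
    refine ⟨ox, _, hcl ⟨_, hg⟩ _ hq ?_, hx.symm⟩
    have : toPerm 100 w.1 ∈ S100 := mem_grp_of_sift _ _ _ check_chain.1 (rep_fst ox) sx
    rw [hx] at this
    exact this
  have hword : ∀ l : List ℕ, ∃ σ ∈ T', Rep (word l) σ := by
    intro l
    induction l with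
    | nil => exact ⟨1, one_mem _, rep_idN⟩
    | cons k l ih =>
      obtain ⟨σ, hσ, hr⟩ := ih
      obtain ⟨τ, hτ, ht⟩ : ∃ τ ∈ T', Rep ((TwoData.wit.map fun w => w.1.1).getD k idN) τ := by
        rw [List.getD_eq_getElem?_getD, List.getElem?_map]
        cases hk : TwoData.wit[k]? with
        | none => exact ⟨1, one_mem _, rep_idN⟩
        | some w => exact ⟨_, (hw w (List.mem_of_getElem? hk)).2, rep_fst (hw w (List.mem_of_getElem? hk)).1⟩
      exact ⟨τ * σ, mul_mem hτ hσ, rep_comp ht hr⟩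
  have hle : S100 ≤ T' := (closure_le _).mpr (by
    rintro _ ⟨e, he, rfl⟩
    obtain ⟨i, hi, rfl⟩ := List.mem_iff_getElem.mp he
    have hi' : i < TwoData.words.length := words_ok.1.symm ▸ hi
    have h := List.all_eq_true.mp words_ok.2 ((gensOf TwoData.sChain)[i], TwoData.words[i])
      (List.mem_iff_getElem.mpr ⟨i, by simpa using ⟨hi, hi'⟩, List.getElem_zip⟩)
    have hok := List.all_eq_true.mp gens_ok _ (List.getElem_mem hi)
    simp only [Bool.and_eq_true] at hok
    obtain ⟨σ, hσ, hr⟩ := hword TwoData.words[i]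
    exact (perm_eq h (rep_fst hok.1.1) hr).symm ▸ hσ)
  intro x hx
  obtain ⟨t, ht, e⟩ := hle hx
  rwa [← Subtype.ext (a1 := t) (a2 := x) e]

/-- The isomorphism of the pairs with the centraliser. -/
noncomputable def pairsEquiv : Centralizer.pairs ≃* Centralizer.Cen :=
  MulEquiv.ofBijective Centralizer.toCen Centralizer.toCen_bijective

/-- The action of the centraliser on five points. -/
noncomputable def five : Centralizer.Cen →* alternatingGroup (Fin 5) :=
  Centralizer.toAlt.comp pairsEquiv.symm.toMonoidHom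

theorem five_surjective : Function.Surjective five :=
  Centralizer.card_split.2.comp pairsEquiv.symm.surjective

/-- The kernel, an extraspecial group of order 32. -/
noncomputable abbrev Q : Subgroup J := five.ker.map Centralizer.Cen.subtype

theorem Q_le_Cen : Q ≤ Centralizer.Cen := by
  rintro _ ⟨x, -, rfl⟩; exact x.2

theorem conj_mem_Q {n q : J} (hn : n ∈ Centralizer.Cen) (hq : q ∈ Q) : n * q * n⁻¹ ∈ Q := by
  obtain ⟨x, hx, rfl⟩ := hq
  let m : Centralizer.Cen := ⟨n, hn⟩
  have h : m * x * m⁻¹ ∈ five.ker := five.normal_ker.conj_mem x hx m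
  exact ⟨m * x * m⁻¹, h, by simp only [map_mul, map_inv]; rfl⟩

theorem Q_le_normalizer : Centralizer.Cen ≤ normalizer (Q : Set J) := fun n hn =>
  mem_normalizer_iff.mpr fun q => ⟨conj_mem_Q hn, fun h => by
    simpa [mul_assoc] using conj_mem_Q (inv_mem hn) h⟩

/-- The kernel as pairs. -/
noncomputable def kerEquiv : Centralizer.Ker ≃* five.ker where
  toFun p := ⟨pairsEquiv p.1, by simp [five, MonoidHom.mem_ker.mp p.2]⟩
  invFun p := ⟨pairsEquiv.symm p.1, MonoidHom.mem_ker.mp p.2⟩
  left_inv _ := Subtype.ext (pairsEquiv.symm_apply_apply _)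
  right_inv _ := Subtype.ext (pairsEquiv.apply_symm_apply _)
  map_mul' _ _ := Subtype.ext (map_mul pairsEquiv _ _)

/-- The kernel inside the whole group. -/
noncomputable def kerQ : Centralizer.Ker ≃* Q :=
  kerEquiv.trans (five.ker.equivMapOfInjective _ (subtype_injective _))

theorem extraspecial_Q : Cfsg.IsExtraspecial 2 Q :=
  Centralizer.isExtraspecial_of_equiv kerQ Centralizer.isExtraspecial_Ker

theorem card_Q : Nat.card Q = 32 := (Nat.card_congr kerQ.toEquiv).symm.trans Centralizer.card_split.1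

theorem Q_le_S0 : Q ≤ S0 := by
  haveI := Fact.mk Nat.prime_two
  have hp : IsPGroup 2 (S0 ⊔ Q : Subgroup J) :=
    pgroup_S0.to_sup_of_normal_right' extraspecial_Q.1.1 (S0_le_Cen.trans Q_le_normalizer)
  obtain ⟨n, hn⟩ := hp.exists_card_eq
  have hdvd : 2 ^ n ∣ 604800 := by rw [← hn, ← card_J]; exact card_subgroup_dvd_card _
  have hn7 : n ≤ 7 := by
    by_contra h
    exact absurd ((pow_dvd_pow 2 (show 8 ≤ n by omega)).trans hdvd) (by norm_num)
  have : S0 = S0 ⊔ Q := eq_of_le_of_card_ge le_sup_left (by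
    rw [hn, card_S0]
    exact (Nat.pow_le_pow_right (by norm_num) hn7).trans_eq (by norm_num))
  rw [this]; exact le_sup_right

theorem z_mem_Q : z ∈ Q := z_mem_of_normalized Q_le_S0
  (fun h => by have := card_Q; rw [h, card_bot] at this; omega) fun _ hn _ hq => conj_mem_Q (S0_le_Cen hn) hq

theorem center_Q {x : J} (hx : x ∈ Q) (hc : ∀ y ∈ Q, x * y = y * x) : x = 1 ∨ x = z := by
  have hzc : (⟨z, z_mem_Q⟩ : Q) ∈ center Q := mem_center_iff.mpr fun y => Subtype.ext
    (mem_centralizer_singleton_iff.mp (Q_le_Cen y.2))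
  have hxc : (⟨x, hx⟩ : Q) ∈ center Q := mem_center_iff.mpr fun y => Subtype.ext (hc y y.2).symm
  obtain ⟨a, b, hab, hu⟩ := Nat.card_eq_two_iff.mp extraspecial_Q.2
  have : ∀ c : center Q, c = a ∨ c = b := fun c => by
    have := hu.ge (Set.mem_univ c)
    simpa using this
  by_contra hne
  push Not at hne
  have key : ∀ u v w : center Q, u ≠ v → v ≠ w → u ≠ w → False := fun u v w h1 h2 h3 => by
    rcases this u with rfl | rfl <;> rcases this v with rfl | rfl <;> rcases this w with rfl | rfl <;> simp_all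
  exact key 1 ⟨_, hzc⟩ ⟨_, hxc⟩ (fun e => z_ne (congrArg (fun c : center Q => ((c : Q) : J)) e).symm)
    (fun e => hne.2 (congrArg (fun c : center Q => ((c : Q) : J)) e).symm)
    (fun e => hne.1 (congrArg (fun c : center Q => ((c : Q) : J)) e).symm)

theorem sq_center {q : J} (hq : q ∈ Q) : q * q = 1 ∨ q * q = z := by
  haveI := Fact.mk Nat.prime_two
  have h := PGroup.Frattini.pow_mem_frattini extraspecial_Q.1.1 (⟨q, hq⟩ : Q)
  rw [extraspecial_Q.1.2.1, pow_two] at h
  exact center_Q (mul_mem hq hq) fun y hy => (congrArg Subtype.val (mem_center_iff.mp h ⟨y, hy⟩)).symm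

theorem five_exp : ∀ σ : Equiv.Perm (Fin 5), Equiv.Perm.sign σ = 1 → σ ^ 4 = 1 → σ ^ 2 = 1 := by decide +kernel

theorem five_sq {x : Centralizer.Cen} (hx : (x : J) ∈ S0) : five x * five x = 1 := by
  have h1 : five x ^ 128 = 1 := by
    rw [← map_pow]
    have : (⟨(x : J), hx⟩ : S0) ^ 128 = 1 := by rw [← card_S0]; exact pow_card_eq_one'
    have : x ^ 128 = 1 := Subtype.ext (congrArg Subtype.val this :)
    rw [this, map_one]
  have h2 : five x ^ 60 = 1 := by
    have h := pow_card_eq_one' (G := alternatingGroup (Fin 5)) (x := five x)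
    rwa [nat_card_alternatingGroup, Nat.card_fin, show Nat.factorial 5 / 2 = 60 from rfl] at h
  have h4 : five x ^ 4 = 1 := by
    have := pow_gcd_eq_one.mpr ⟨h1, h2⟩
    norm_num at this
    exact this
  rw [← pow_two]
  exact Subtype.ext (five_exp _ (Equiv.Perm.mem_alternatingGroup.mp (five x).2) (congrArg Subtype.val h4 :))

theorem centralizer_Q : centralizer (Q : Set J) ≤ Q := by
  have hle : centralizer (Q : Set J) ≤ Centralizer.Cen := fun g hg =>
    mem_centralizer_singleton_iff.mpr (mem_centralizer_iff.mp hg z z_mem_Q).symm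
  have hN : ((centralizer (Q : Set J)).subgroupOf Centralizer.Cen).Normal := ⟨fun k hk n => by
    rw [mem_subgroupOf, mem_centralizer_iff] at hk ⊢
    intro q hq
    have h := hk _ (conj_mem_Q (inv_mem n.2) hq)
    simp only [inv_inv] at h
    push_cast
    calc q * ((n : J) * k * (n : J)⁻¹) = (n : J) * ((n : J)⁻¹ * q * n * k) * (n : J)⁻¹ := by group
      _ = (n : J) * ((k : J) * ((n : J)⁻¹ * q * n)) * (n : J)⁻¹ := by rw [h]
      _ = (n : J) * k * (n : J)⁻¹ * q := by group⟩
  rcases (hN.map five five_surjective).eq_bot_or_eq_top with h | h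
  · intro k hk
    exact ⟨⟨k, hle hk⟩, (Subgroup.map_eq_bot_iff _).mp h hk, rfl⟩
  · exfalso
    obtain ⟨w, hw, hsq⟩ := List.any_eq_true.mp sq_ok
    have hh := List.all_eq_true.mp wit_ok w hw
    simp only [Bool.and_eq_true] at hh
    obtain ⟨⟨⟨⟨⟨⟨⟨⟨ox, -⟩, -⟩, -⟩, sx⟩, -⟩, -⟩, -⟩, -⟩ := hh
    have hxS : toPerm 100 w.1 ∈ S100 := mem_grp_of_sift _ _ _ check_chain.1 (rep_fst ox) sx
    set x : J := ⟨toPerm 100 w.1, (gen_spec hxS).1⟩
    have hxS0 : x ∈ S0 := hxS
    set xc : Centralizer.Cen := ⟨x, S0_le_Cen hxS0⟩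
    obtain ⟨k, hk, hek⟩ : five xc ∈ ((centralizer (Q : Set J)).subgroupOf Centralizer.Cen).map five := by
      rw [h]; exact mem_top _
    have hq : x * (k : J)⁻¹ ∈ Q := ⟨xc * k⁻¹, by
      rw [SetLike.mem_coe, MonoidHom.mem_ker, map_mul, map_inv, hek, mul_inv_cancel], rfl⟩
    have hkc : ∀ y ∈ Q, y * (k : J) = (k : J) * y := mem_centralizer_iff.mp hk
    have hk2 : (k : J) * k ∈ Q := ⟨k * k, by
      rw [SetLike.mem_coe, MonoidHom.mem_ker, map_mul, hek]
      exact five_sq hxS0, rfl⟩
    have hkz : (k : J) * k = 1 ∨ (k : J) * k = z := center_Q hk2 fun y hy => by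
      rw [mul_assoc, ← hkc y hy, ← mul_assoc, ← hkc y hy, mul_assoc]
    have hzz : z * z = 1 := Subtype.ext (invol_sq 0)
    have hx2 : x * x = 1 ∨ x * x = z := by
      have e : x * x = (x * (k : J)⁻¹) * (x * (k : J)⁻¹) * ((k : J) * k) := by
        have hc := hkc _ hq
        calc x * x = x * (k : J)⁻¹ * k * (x * (k : J)⁻¹ * k) := by group
          _ = x * (k : J)⁻¹ * ((k : J) * (x * (k : J)⁻¹)) * k := by group
          _ = x * (k : J)⁻¹ * (x * (k : J)⁻¹ * k) * k := by rw [hc]
          _ = _ := by group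
      rw [e]
      rcases sq_center hq with h1 | h1 <;> rcases hkz with h2 | h2 <;> rw [h1, h2] <;> simp [hzz]
    simp only [Bool.and_eq_true, Bool.not_eq_true'] at hsq
    have hr := rep_comp (rep_fst ox) (rep_fst ox)
    rcases hx2 with e | e
    · have e' : toPerm 100 w.1 * toPerm 100 w.1 = 1 := congrArg Subtype.val e
      rw [e'] at hr
      have : isId 100 (comp 100 w.1.1 w.1.1) = true := List.all_eq_true.mpr fun i hi => by
        simpa using hr ⟨i, List.mem_range.mp hi⟩
      rw [hsq.1] at this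
      exact Bool.false_ne_true this
    · have e' : toPerm 100 w.1 * toPerm 100 w.1 = invol 0 := congrArg Subtype.val e
      rw [e'] at hr
      have : same 100 (comp 100 w.1.1 w.1.1) (involN 0).1 = true := List.all_eq_true.mpr fun i hi =>
        beq_iff_eq.mpr ((hr ⟨i, List.mem_range.mp hi⟩).trans (rep_fst (invol_okAt 0) ⟨i, List.mem_range.mp hi⟩).symm)
      rw [hsq.2] at this
      exact Bool.false_ne_true this

theorem normalizer_le_localCore : normalizer (S0 : Set J) ≤ localCore S0 Q := by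
  have hCen : normalizer (S0 : Set J) ≤ Centralizer.Cen := by
    intro n hn
    refine mem_centralizer_singleton_iff.mpr ?_
    have hm : n * z * n⁻¹ ∈ S0 := (mem_normalizer_iff.mp hn z).mp z_mem
    rcases center_S0 hm (fun y hy => by
      have hy' : n⁻¹ * y * n ∈ S0 := by
        have := (mem_normalizer_iff.mp (inv_mem hn) y).mp hy
        simpa using this
      have e : z * (n⁻¹ * y * n) = (n⁻¹ * y * n) * z :=
        Subtype.ext (gen_spec hy').2.symm
      calc n * z * n⁻¹ * y = n * (z * (n⁻¹ * y * n)) * n⁻¹ := by group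
        _ = n * ((n⁻¹ * y * n) * z) * n⁻¹ := by rw [e]
        _ = y * (n * z * n⁻¹) := by group) with h | h
    · exact absurd (conj_eq_one_iff.mp h) z_ne
    · exact mul_inv_eq_iff_eq_mul.mp h
  refine hCen.trans ?_
  set L := (localCore S0 Q).subgroupOf Centralizer.Cen
  have hN : L.Normal := ⟨fun k hk n =>
    CfsgLib.Fsys.GroupSimpleLocal.conj_mem_localCore (Q_le_normalizer n.2) hk⟩
  have hS : S0 ≤ localCore S0 Q := fun x hx =>
    CfsgLib.Fsys.GroupSimpleLocal.mem_localCore hx (Q_le_normalizer (S0_le_Cen hx))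
  have hker : five.ker ≤ L := fun k hk => hS (Q_le_S0 ⟨k, hk, rfl⟩)
  rcases (hN.map five five_surjective).eq_bot_or_eq_top with h | h
  · exfalso
    have : S0 ≤ Q := fun x hx => ⟨⟨x, S0_le_Cen hx⟩, (Subgroup.map_eq_bot_iff _).mp h (hS hx), rfl⟩
    have := Nat.card_le_card_of_injective _ (inclusion_injective this)
    rw [card_S0, card_Q] at this
    omega
  · intro n hn
    obtain ⟨l, hl, e⟩ : five ⟨n, hn⟩ ∈ L.map five := by rw [h]; exact mem_top _
    have : l⁻¹ * (⟨n, hn⟩ : Centralizer.Cen) ∈ L :=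
      hker (by rw [MonoidHom.mem_ker, map_mul, map_inv, e, inv_mul_cancel])
    have := mul_mem hl this
    rwa [mul_inv_cancel_left] at this

end CfsgLib.Sporadic.Icosian.TwoLocal

namespace CfsgLib.Sporadic.Icosian.TwoLocal

open Cfsg Subgroup
open CfsgLib.Fsys.GroupSimpleLocal (localCore)

/-- The 2-fusion system of a group isomorphic to the Hall-Janko group is simple. -/
theorem isSimple {G : Type*} [Group G] [Finite G] (e₀ : G ≃* J) (S : Sylow 2 G) :
    (groupFusionSystem (S : Subgroup G)).IsSimple 2 := by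
  haveI := Fact.mk Nat.prime_two
  have hidx : ¬ 2 ∣ S0.index := by
    have h := S0.card_mul_index
    rw [card_S0, card_J] at h
    omega
  let P : Sylow 2 J := pgroup_S0.toSylow hidx
  obtain ⟨g, hg⟩ := MulAction.exists_smul_eq J (S.mapSurjective (f := e₀.toMonoidHom) e₀.surjective) P
  set e : G ≃* J := e₀.trans (MulAut.conj g)
  have hS : (S : Subgroup G).map e.toMonoidHom = S0 := by
    have := congrArg (fun T : Sylow 2 J => (T : Subgroup J)) hg
    simp only [P, IsPGroup.toSylow_coe, Sylow.coe_subgroup_smul] at this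
    rw [← this]
    show (S : Subgroup G).map ((MulAut.conj g).toMonoidHom.comp e₀.toMonoidHom) = _
    rw [← Subgroup.map_map]
    rfl
  have hmem : ∀ x, x ∈ (S : Subgroup G) ↔ e x ∈ S0 := fun x => by
    rw [← hS]; exact (mem_map_iff_mem e.injective).symm
  refine CfsgLib.Fsys.GroupSimpleLocal.isSimple S ?_ ?_ ?_
  · intro h
    have := card_S0
    rw [← hS, h, Subgroup.map_bot, card_bot] at this
    omega
  · intro T hT hne hcl x hx
    have key := le_of_strongly_closed (T := T.map e.toMonoidHom) ((map_mono hT).trans hS.le)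
      (fun h => hne ((map_eq_bot_iff_of_injective _ e.injective).mp h)) fun g y hy hgy => by
        obtain ⟨t, ht, rfl⟩ := hy
        obtain ⟨g, rfl⟩ := e.surjective g
        have he : e g * e t * (e g)⁻¹ = e (g * t * g⁻¹) := by simp
        refine ⟨g * t * g⁻¹, hcl g t ht ((hmem _).mpr ?_), he.symm⟩
        rw [← he]; exact hgy
    exact (mem_map_iff_mem e.injective).mp (key ((hmem x).mp hx))
  · intro n hn
    refine subset_closure (Or.inr ⟨hn, Q.comap e.toMonoidHom, fun r hr => (hmem r).mpr (Q_le_S0 hr),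
      fun x hx => centralizer_Q (mem_centralizer_iff.mpr fun q hq => ?_), ?_⟩)
    · obtain ⟨r, rfl⟩ := e.surjective q
      exact ((map_mul e r x).symm.trans (congrArg e (mem_centralizer_iff.mp hx r hq))).trans (map_mul e x r)
    · have hnorm : e n ∈ normalizer (S0 : Set J) := mem_normalizer_iff.mpr fun y => by
        obtain ⟨y, rfl⟩ := e.surjective y
        rw [← map_mul, ← map_inv, ← map_mul, ← hmem, ← hmem]
        exact mem_normalizer_iff.mp hn y
      have hle : localCore S0 Q ≤ (localCore (S : Subgroup G) (Q.comap e.toMonoidHom)).map e.toMonoidHom := by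
        refine (closure_le _).mpr ?_
        rintro _ ⟨m, hm, x, hx, hxN, rfl⟩
        obtain ⟨m, rfl⟩ := e.surjective m
        obtain ⟨x, rfl⟩ := e.surjective x
        have pull : ∀ {a : G}, e a ∈ normalizer (Q : Set J) → a ∈ normalizer (Q.comap e.toMonoidHom : Set G) :=
          fun {a} ha => mem_normalizer_iff.mpr fun b => by
            simp only [SetLike.mem_coe, mem_comap, MulEquiv.coe_toMonoidHom, map_mul, map_inv]
            exact mem_normalizer_iff.mp ha (e b)
        exact ⟨m * x * m⁻¹, subset_closure ⟨m, pull hm, x, (hmem x).mpr hx, pull hxN, rfl⟩, by simp⟩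
      exact (mem_map_iff_mem e.injective).mp (hle (normalizer_le_localCore hnorm))

end CfsgLib.Sporadic.Icosian.TwoLocal
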