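import Cfsg.Agent.Lib.Sporadic.Icosian.UnitaryData
import Cfsg.Agent.Lib.Sporadic.Icosian.Spectrum
import Cfsg.Agent.Lib.Chevalley.G2Two.USide
import Cfsg.Agent.Lib.Classical.HermMatrixSimple
import Cfsg.Agent.S0280
import Cfsg.Agent.S0283
import Cfsg.Agent.Lib.Sporadic.Icosian.Group

/-!
# The subgroup of index one hundred is the unitary group
-/

set_option autoImplicit false
set_option maxRecDepth 100000

namespace CfsgLib.Sporadic.Icosian.Unitary

open CfsgLib.SmallGroups CfsgLib.SmallGroups.PermChain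
open CfsgLib.SmallGroups.HallJankoData (level1 level2 partH)
open CfsgLib.Chevalley.G2Two (U3 phi rootU rootImg rootSrc F9)

theorem center_eq_bot : Subgroup.center U3 = ⊥ := by
  rw [Subgroup.eq_bot_iff_card, CfsgLib.Classical.card_center_SU (q := 3)
    (CfsgLib.Chevalley.G2Two.F9.card_F9.trans (by norm_num)) (by norm_num)]
  rfl

/-- The projection to the projective group. -/
noncomputable def toProj : U3 ≃* Cfsg.PSU 3 F9 3 :=
  (QuotientGroup.quotientBot.symm).trans (QuotientGroup.quotientMulEquivOfEq center_eq_bot.symm)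

theorem card_eq : Nat.card U3 = 6048 := by
  have h := Cfsg.Agent.S0280.result (F := F9) (q := 3) (CfsgLib.Chevalley.G2Two.F9.card_F9.trans (by norm_num)) 3
    (by norm_num)
  rw [← Nat.card_congr toProj.toEquiv] at h
  norm_num [Finset.prod_range_succ, Nat.even_iff] at h
  omega

theorem action_injective : Function.Injective phi := by
  haveI : IsSimpleGroup U3 :=
    haveI := Cfsg.Agent.S0283.result (F := F9) (q := 3) (CfsgLib.Chevalley.G2Two.F9.card_F9.trans (by norm_num)) 3
      le_rfl (by norm_num)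
    toProj.isSimpleGroup
  rw [← MonoidHom.ker_eq_bot_iff]
  refine (IsSimpleGroup.eq_bot_or_eq_top_of_normal _ inferInstance).resolve_right fun h => ?_
  have h1 : phi (rootU 0) = 1 := MonoidHom.mem_ker.mp (h ▸ Subgroup.mem_top _)
  have h2 := fun i => CfsgLib.Chevalley.G2Two.phi_root 0 i
  simp only [h1, Equiv.Perm.one_apply] at h2
  have key : ¬ ∀ i : Fin 63, rootSrc 0 i = rootImg 0 i := by decide +kernel
  exact key h2

/-- The unitary group among the permutations of the labels. -/
noncomputable def N : Subgroup (Equiv.Perm (Fin 63)) := phi.range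

theorem card_N : Nat.card ↥N = 6048 :=
  (Nat.card_congr (MonoidHom.ofInjective action_injective).toEquiv).symm.trans card_eq

/-- The point stabiliser. -/
abbrev H : Subgroup (Equiv.Perm (Fin 100)) := grp 100 HallJanko.chain₁

theorem points_lt : UnitaryData.pointN.length = 63 ∧ (∀ p ∈ UnitaryData.pointN, p < 100) ∧ UnitaryData.pointN.Nodup ∧
    UnitaryData.pointN.Perm (pts partH) := by decide +kernel

/-- The point with a label. -/
def point (j : Fin 63) : Fin 100 :=
  ⟨UnitaryData.pointN[j.val]'(points_lt.1.symm ▸ j.isLt), points_lt.2.1 _ (List.getElem_mem _)⟩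

theorem point_injective : Function.Injective point := fun i j e =>
  Fin.ext ((List.Nodup.getElem_inj_iff points_lt.2.2.1 (hi := points_lt.1.symm ▸ i.isLt) (hj := points_lt.1.symm ▸ j.isLt)).mp
    (congrArg Fin.val e))

/-- The action of a word of root elements. -/
def wordFun : List (Fin 12) → Fin 63 → Fin 63
  | [], j => j
  | r :: w, j => rootImg r (rootSrc r (wordFun w j))

theorem rootSrc_twice (r : Fin 12) (i : Fin 63) : rootSrc r (rootSrc r i) = i := by
  simp only [CfsgLib.Chevalley.G2Two.rootSrc]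
  split
  · exact CfsgLib.Chevalley.G2Two.sigmaFun_sq i
  · rfl

theorem phi_word : ∀ (w : List (Fin 12)) (j : Fin 63), phi (w.map rootU).prod j = wordFun w j
  | [], j => by simp [wordFun]
  | r :: w, j => by
    rw [List.map_cons, List.prod_cons, map_mul, Equiv.Perm.mul_apply, phi_word w j, wordFun,
      ← CfsgLib.Chevalley.G2Two.phi_root r (rootSrc r (wordFun w j)), rootSrc_twice]

theorem gens_match : (gensOf HallJanko.chain₁).length = UnitaryData.words.length ∧
    (((gensOf HallJanko.chain₁).zip UnitaryData.words).all fun ew => ok 100 ew.1 &&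
      (List.finRange 63).all fun j => get ew.1.1 (point j) == (point (wordFun ew.2 j) : ℕ)) = true := by decide +kernel

/-- A permutation of one hundred points induces a permutation of the labels. -/
def Induces (σ : Equiv.Perm (Fin 100)) (ν : Equiv.Perm (Fin 63)) : Prop :=
  ν ∈ N ∧ ∀ j, σ (point j) = point (ν j)

theorem exists_induced {σ : Equiv.Perm (Fin 100)} (hσ : σ ∈ H) : ∃ ν, Induces σ ν := by
  induction hσ using Subgroup.closure_induction with
  | mem σ h =>
    obtain ⟨e, he, rfl⟩ := h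
    obtain ⟨i, hi, rfl⟩ := List.mem_iff_getElem.mp he
    have hi' : i < UnitaryData.words.length := gens_match.1 ▸ hi
    have h := (List.all_eq_true.mp gens_match.2) ((gensOf HallJanko.chain₁)[i], UnitaryData.words[i])
      (List.mem_iff_getElem.mpr ⟨i, by simpa using ⟨hi, hi'⟩, List.getElem_zip⟩)
    simp only [Bool.and_eq_true, List.all_eq_true, beq_iff_eq] at h
    refine ⟨phi (UnitaryData.words[i].map rootU).prod, ⟨_, rfl⟩, fun j => Fin.ext ?_⟩
    rw [phi_word]
    exact (rep_fst h.1 (point j)).symm.trans (h.2 j (List.mem_finRange j))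
  | one => exact ⟨1, one_mem _, fun j => rfl⟩
  | mul a b _ _ ha hb =>
    obtain ⟨x, hx, hx'⟩ := ha; obtain ⟨y, hy, hy'⟩ := hb
    exact ⟨x * y, mul_mem hx hy, fun j => by rw [Equiv.Perm.mul_apply, hy', hx', Equiv.Perm.mul_apply]⟩
  | inv a _ ha =>
    obtain ⟨x, hx, hx'⟩ := ha
    refine ⟨x⁻¹, inv_mem hx, fun j => ?_⟩
    rw [Equiv.Perm.inv_eq_iff_eq, hx']
    simp

theorem induced_unique {σ : Equiv.Perm (Fin 100)} {ν ν' : Equiv.Perm (Fin 63)} (h : Induces σ ν) (h' : Induces σ ν') :
    ν = ν' :=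
  Equiv.ext fun j => point_injective ((h.2 j).symm.trans (h'.2 j))

/-- The map to the unitary group on labels. -/
noncomputable def toN : H →* N :=
  MonoidHom.mk' (fun σ => ⟨(exists_induced σ.2).choose, (exists_induced σ.2).choose_spec.1⟩) fun a b =>
    Subtype.ext (induced_unique (exists_induced (a * b).2).choose_spec
      ⟨mul_mem (exists_induced a.2).choose_spec.1 (exists_induced b.2).choose_spec.1, fun j => by
        rw [Subgroup.coe_mul, Equiv.Perm.mul_apply, (exists_induced b.2).choose_spec.2,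
          (exists_induced a.2).choose_spec.2]
        rfl⟩)

theorem toN_bijective : Function.Bijective toN := by
  have hinj : Function.Injective toN := by
    haveI : IsSimpleGroup H := HallJanko.simple_H
    rw [← MonoidHom.ker_eq_bot_iff]
    refine (Subgroup.Normal.eq_bot_or_eq_top (inferInstance : toN.ker.Normal)).resolve_right fun h => ?_
    have fix : ∀ σ : H, ∀ j, (σ : Equiv.Perm (Fin 100)) (point j) = point j := fun σ j => by
      have h1 := congrArg Subtype.val (MonoidHom.mem_ker.mp (show σ ∈ toN.ker by rw [h]; exact Subgroup.mem_top _))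
      have h2 := (exists_induced σ.2).choose_spec.2 j
      rw [show (exists_induced σ.2).choose = 1 from h1] at h2
      exact h2
    have hb : partH.b < 100 := by rw [Spectrum.bases_eq.2]; norm_num
    obtain ⟨-, hpl, hnd, hperm⟩ := points_lt
    have hfix : ∀ y : Fin 100, (y : ℕ) ∈ pts partH → y = ⟨partH.b, hb⟩ := fun y hy => by
      obtain ⟨σ, hσ, e⟩ := exists_map_of_conn HallJanko.conn_partH hb hy
      have hmem : partH.b ∈ UnitaryData.pointN := hperm.mem_iff.mpr (by rw [Spectrum.bases_eq.2]; exact Spectrum.pts_far.2.2.1)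
      obtain ⟨i, hi, e'⟩ := List.mem_iff_getElem.mp hmem
      have hp : point ⟨i, points_lt.1 ▸ hi⟩ = ⟨partH.b, hb⟩ := Fin.ext e'
      have := fix ⟨σ, hσ⟩ ⟨i, points_lt.1 ▸ hi⟩
      rw [hp] at this
      exact e.symm.trans this
    have a : ∀ y ∈ pts partH, y = partH.b := fun y hy => congrArg Fin.val (hfix ⟨y, Spectrum.pts_far.2.2.2 y hy⟩ hy)
    have := List.toFinset_card_of_nodup Spectrum.pts_far.1
    rw [Spectrum.pts_far.2.1] at this
    have hle : (pts partH).toFinset.card ≤ 1 := Finset.card_le_one.mpr fun x hx y hy => by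
      rw [List.mem_toFinset] at hx hy; rw [a x hx, a y hy]
    omega
  exact hinj.bijective_of_nat_card_le (by rw [card_N, HallJanko.card_H])

/-- The point stabiliser is the projective unitary group. -/
noncomputable def equivPSU : H ≃* Cfsg.PSU 3 CfsgLib.Chevalley.G2Two.F9 3 :=
  ((MulEquiv.ofBijective toN toN_bijective).trans
    (MonoidHom.ofInjective action_injective).symm).trans toProj

/-- The stabiliser inside the reflection group modulo its centre. -/
noncomputable abbrev H' : Subgroup Cfsg.Spor.J2 := (H.subgroupOf J).comap equivJ.toMonoidHom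

theorem H_le : H ≤ J := fun _ h => (Spectrum.fixes_zero h).1

theorem mem_H' (g : Cfsg.Spor.J2) : g ∈ H' ↔ ((equivJ g : J) : Equiv.Perm (Fin 100)) 0 = 0 :=
  ⟨fun h => (Spectrum.fixes_zero h).2, fun h => Spectrum.mem_H (equivJ g).2 h⟩

/-- The isomorphism of the stabiliser. -/
noncomputable def equivH : H' ≃* H :=
  (((equivJ.subgroupMap H').trans (MulEquiv.subgroupCongr
    (show H'.map equivJ.toMonoidHom = H.subgroupOf J from
      Subgroup.map_comap_eq_self_of_surjective equivJ.surjective _))).trans (Subgroup.subgroupOfEquivOfLe H_le))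

theorem index_H' : H'.index = 100 := by
  have h := H'.card_mul_index
  rw [Nat.card_congr equivH.toEquiv, HallJanko.card_H, Nat.card_congr equivJ.toEquiv, card_J] at h
  omega

/-- The point of a coset. -/
noncomputable def cosetPoint (q : Cfsg.Spor.J2 ⧸ H') : Fin 100 :=
  Quotient.liftOn' q (fun g => ((equivJ g : J) : Equiv.Perm (Fin 100)) 0) fun a b h => by
    rw [QuotientGroup.leftRel_apply, mem_H', map_mul, map_inv, Subgroup.coe_mul, InvMemClass.coe_inv,
      Equiv.Perm.mul_apply, Equiv.Perm.inv_eq_iff_eq] at h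
    exact h.symm

theorem cosetPoint_mk (g : Cfsg.Spor.J2) :
    cosetPoint (QuotientGroup.mk g) = ((equivJ g : J) : Equiv.Perm (Fin 100)) 0 := rfl

theorem cosetPoint_injective : Function.Injective cosetPoint := by
  intro a b e
  induction a using QuotientGroup.induction_on with | H a =>
  induction b using QuotientGroup.induction_on with | H b =>
  refine QuotientGroup.eq.mpr ((mem_H' _).mpr ?_)
  rw [cosetPoint_mk, cosetPoint_mk] at e
  rw [map_mul, map_inv, Subgroup.coe_mul, InvMemClass.coe_inv, Equiv.Perm.mul_apply, Equiv.Perm.inv_eq_iff_eq]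
  exact e.symm

theorem orbit_card {U : List ℕ} {P : Level} (hU : ((gensOf HallJanko.chain₁).all fun e => U.all fun y =>
    U.contains (get e.1 y)) = true) (hconn : connOK 100 HallJanko.chain₁ P = true) (hb : P.b < 100)
    (hPU : ∀ y ∈ U, y ∈ pts P) (hbU : P.b ∈ U) (hlt : ∀ y ∈ U, y < 100) (hnd : U.Nodup)
    (g : Cfsg.Spor.J2) (hg : ((equivJ g : J) : Equiv.Perm (Fin 100)) 0 = ⟨P.b, hb⟩) :
    (MulAction.orbit ↥H' (QuotientGroup.mk g : Cfsg.Spor.J2 ⧸ H')).ncard = U.length := by
  rw [← Set.ncard_image_of_injective _ cosetPoint_injective, ← List.toFinset_card_of_nodup hnd,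
    ← Set.ncard_coe_finset, ← Set.ncard_image_of_injective _ Fin.val_injective, Set.image_image]
  congr 1
  ext y
  simp only [Set.mem_image, List.coe_toFinset, Set.mem_ofPred_eq]
  constructor
  · rintro ⟨_, ⟨h, rfl⟩, rfl⟩
    show (((equivJ ((h : Cfsg.Spor.J2) * g) : J) : Equiv.Perm (Fin 100)) 0 : ℕ) ∈ U
    rw [map_mul, Subgroup.coe_mul, Equiv.Perm.mul_apply, hg]
    exact Spectrum.closed_mem hU h.2 hbU
  · intro hy
    obtain ⟨σ, hσ, e⟩ := exists_map_of_conn hconn hb (y := ⟨y, hlt y hy⟩) (hPU y hy)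
    refine ⟨_, ⟨equivH.symm ⟨σ, hσ⟩, rfl⟩, ?_⟩
    show (((equivJ (((equivH.symm ⟨σ, hσ⟩ : H') : Cfsg.Spor.J2) * g) : J) : Equiv.Perm (Fin 100)) 0 : ℕ) = y
    rw [map_mul, Subgroup.coe_mul, Equiv.Perm.mul_apply, hg]
    have : ((equivJ ((equivH.symm ⟨σ, hσ⟩ : H') : Cfsg.Spor.J2) : J) : Equiv.Perm (Fin 100)) = σ :=
      congrArg (fun x : H => (x : Equiv.Perm (Fin 100))) (equivH.apply_symm_apply ⟨σ, hσ⟩)
    rw [this, e]

theorem level2_facts : (pts level2).Nodup ∧ (pts level2).length = 36 := by decide +kernel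

theorem main : ∃ H : Subgroup Cfsg.Spor.J2, H.index = 100 ∧
    (∃ (F : Type) (_ : Field F) (_ : Fintype F), Fintype.card F = 9 ∧ Nonempty (↥H ≃* Cfsg.PSU 3 F 3)) ∧
    ∃ c₁ c₂ : Cfsg.Spor.J2 ⧸ H, (MulAction.orbit ↥H c₁).ncard = 36 ∧ (MulAction.orbit ↥H c₂).ncard = 63 := by
  refine ⟨H', index_H', ⟨CfsgLib.Chevalley.G2Two.F9, inferInstance, inferInstance,
    CfsgLib.Chevalley.G2Two.F9.card_F9, ⟨equivH.trans equivPSU⟩⟩, ?_⟩
  obtain ⟨hJ, -, -, -, u1, u37⟩ := Spectrum.movers_ok
  rw [List.all_eq_true] at hJ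
  have step : ∀ (u : ℕ × ℕ) (hu : Spectrum.inJ u = true), ∀ b (hb : b < 100), get u.1 0 = b →
      ((equivJ (equivJ.symm ⟨toPerm 100 u, Spectrum.inJ_mem hu⟩) : J) : Equiv.Perm (Fin 100)) 0 = ⟨b, hb⟩ :=
    fun u hu b hb e => by
      rw [MulEquiv.apply_symm_apply]
      exact Fin.ext ((rep_fst (Spectrum.inJ_ok hu) 0).symm.trans e)
  have h1 := hJ SpecData.stepOne (by simp)
  have h37 := hJ SpecData.stepFar (by simp)
  refine ⟨QuotientGroup.mk (equivJ.symm ⟨_, Spectrum.inJ_mem h1⟩), QuotientGroup.mk (equivJ.symm ⟨_, Spectrum.inJ_mem h37⟩), ?_, ?_⟩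
  · rw [orbit_card Spectrum.closed_near HallJanko.conn_level2 (by rw [Spectrum.bases_eq.1.2.1]; norm_num)
      (fun y hy => hy) (by rw [Spectrum.bases_eq.1.2.1]; exact Spectrum.whole_cover.2.1) Spectrum.whole_cover.2.2
      level2_facts.1 _ (step _ h1 _ _ (u1.trans Spectrum.bases_eq.1.2.1.symm)), level2_facts.2]
  · rw [orbit_card Spectrum.closed_far HallJanko.conn_partH (by rw [Spectrum.bases_eq.2]; norm_num)
      (fun y hy => hy) (by rw [Spectrum.bases_eq.2]; exact Spectrum.pts_far.2.2.1) Spectrum.pts_far.2.2.2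
      Spectrum.pts_far.1 _ (step _ h37 _ _ (u37.trans Spectrum.bases_eq.2.symm)), Spectrum.pts_far.2.1]

end CfsgLib.Sporadic.Icosian.Unitary
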