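import Mathlib

/-!
# Labelling of sixty-three points by a unitary geometry

Machine generated tables.
-/

set_option autoImplicit false

namespace CfsgLib.Sporadic.Icosian.UnitaryData

/-- The point with a given label. -/
def pointN : List ℕ := [75, 73, 63, 53, 80, 97, 47, 70, 41, 54, 81, 96, 72, 52, 84, 46, 90, 49, 76, 51, 39, 98, 61, 78, 43, 58, 87, 85, 92, 83, 60, 89, 88, 62, 64, 42, 79, 95, 38, 82, 44, 77, 67, 37, 50, 57, 74, 86, 91, 65, 69, 56, 68, 40, 55, 93, 66, 45, 71, 59, 94, 48, 99]

/-- The generators as words in root elements. -/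
def words : List (List (Fin 12)) := [[0], [11], [1, 10, 1], [7, 1, 7, 3, 1], [1, 11, 4]]

end CfsgLib.Sporadic.Icosian.UnitaryData
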